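import Mathlib
import Groth.Agent.ProjLib.GradedGen

/-! Homogeneous localization of `A[z]` at `z`. -/

set_option autoImplicit false

namespace Groth.Agent.RelConeLib

open DirectSum Finset HomogeneousLocalization
open scoped HomogeneousIdeal

universe u

variable {σ A τ B : Type u} [CommRing A] [SetLike σ A] [AddSubgroupClass σ A] {𝒜 : ℕ → σ}
  [GradedRing 𝒜] [CommRing B] [SetLike τ B] [AddSubgroupClass τ B] {ℬ : ℕ → τ} [GradedRing ℬ]
  (ψ : 𝒜 →+*ᵍ ℬ) {z : B} (hz : z ∈ ℬ 1)
  (hbij : Function.Bijective (Polynomial.eval₂RingHom ψ.toRingHom z))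

include hz hbij in
theorem exists_decomp {k : ℕ} {y : B} (hy : y ∈ ℬ k) :
    ∃ x : ℕ → A, (∀ i, x i ∈ 𝒜 i) ∧ y = ∑ i ∈ range (k + 1), ψ (x i) * z ^ (k - i) := by
  suffices ∀ p : Polynomial A, ∃ x : ℕ → A, (∀ i, x i ∈ 𝒜 i) ∧
      (decompose ℬ (Polynomial.eval₂RingHom ψ.toRingHom z p) k : B) =
        ∑ i ∈ range (k + 1), ψ (x i) * z ^ (k - i) by
    obtain ⟨p, rfl⟩ := hbij.2 y
    obtain ⟨x, hx, e⟩ := this p
    exact ⟨x, hx, by rw [← e, decompose_of_mem_same ℬ hy]⟩
  intro p
  induction p using Polynomial.induction_on' with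
  | add p q hp hq =>
    obtain ⟨x, hx, e⟩ := hp
    obtain ⟨x', hx', e'⟩ := hq
    refine ⟨x + x', fun i ↦ add_mem (hx i) (hx' i), ?_⟩
    rw [map_add, decompose_add, DirectSum.add_apply, AddMemClass.coe_add, e, e', ← sum_add_distrib]
    exact sum_congr rfl fun i _ ↦ by rw [Pi.add_apply, map_add, add_mul]
  | monomial j a =>
    have hzj : z ^ j ∈ ℬ j := by simpa using SetLike.pow_mem_graded j hz
    have hev : Polynomial.eval₂RingHom ψ.toRingHom z (Polynomial.monomial j a) = ψ a * z ^ j := by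
      simp
    rw [hev]
    by_cases hj : j ≤ k
    · refine ⟨fun i ↦ if i = k - j then (decompose 𝒜 a i : A) else 0, fun i ↦ ?_, ?_⟩
      · dsimp only
        split
        · exact SetLike.coe_mem _
        · exact zero_mem _
      · rw [coe_decompose_mul_of_right_mem_of_le ℬ hzj hj, sum_eq_single (k - j)]
        · dsimp only
          rw [if_pos rfl, map_directSumDecompose 𝒜 ℬ ψ, show k - (k - j) = j by omega]
        · intro i _ hi
          dsimp only
          rw [if_neg hi, map_zero, zero_mul]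
        · intro h
          exact absurd (mem_range.mpr (by omega)) h
    · refine ⟨0, fun _ ↦ zero_mem _, ?_⟩
      rw [coe_decompose_mul_of_right_mem_of_not_le ℬ hzj hj]
      simp

/-- The fraction `ψ x / z ^ k`. -/
noncomputable def frac (k : ℕ) (x : A) (hx : x ∈ 𝒜 k) : Away ℬ z :=
  Away.mk ℬ hz k (ψ x) (by rw [smul_eq_mul, mul_one]; exact ψ.map_mem hx)

theorem val_frac (k : ℕ) (x : A) (hx : x ∈ 𝒜 k) :
    (frac ψ hz k x hx).val =
      Localization.mk (ψ x) ⟨z ^ k, pow_mem (Submonoid.mem_powers z) k⟩ :=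
  Away.val_mk ..

include hbij in
theorem exists_frac_decomp (q : Away ℬ z) :
    ∃ (k : ℕ) (x : ℕ → A) (hx : ∀ i, x i ∈ 𝒜 i),
      q = ∑ i ∈ range (k + 1), frac ψ hz i (x i) (hx i) := by
  obtain ⟨k, y, hy, rfl⟩ := Away.mk_surjective ℬ hz q
  obtain ⟨x, hx, e⟩ := exists_decomp ψ hz hbij (k := k) (by simpa using hy)
  refine ⟨k, x, hx, ?_⟩
  refine HomogeneousLocalization.val_injective _ ?_
  rw [← HomogeneousLocalization.algebraMap_apply, ← HomogeneousLocalization.algebraMap_apply,
    map_sum]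
  simp only [HomogeneousLocalization.algebraMap_apply, val_frac, Away.val_mk]
  simp only [Localization.mk_eq_mk', IsLocalization.mk'_eq_iff_eq_mul, sum_mul, e, map_sum]
  refine sum_congr rfl fun i hi ↦ ?_
  rw [mem_range] at hi
  have h1 : algebraMap B (Localization.Away z) (z ^ k) =
      algebraMap B _ (z ^ i) * algebraMap B _ (z ^ (k - i)) := by
    rw [← map_mul, ← pow_add]
    congr 2
    omega
  rw [map_mul, h1, ← mul_assoc]
  congr 1
  exact (IsLocalization.mk'_spec _ _ _).symm

variable (θ : Away ℬ z →+* A)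
  (hθ : ∀ (q : Away ℬ z) (k : ℕ) (x : A), x ∈ 𝒜 k →
    q.val = Localization.mk (ψ x) ⟨z ^ k, pow_mem (Submonoid.mem_powers z) k⟩ → θ q = x)

include hθ in
theorem map_frac (k : ℕ) (x : A) (hx : x ∈ 𝒜 k) : θ (frac ψ hz k x hx) = x :=
  hθ _ k x hx (val_frac ψ hz k x hx)

include hz hbij hθ in
theorem bijective_toBase : Function.Bijective θ := by
  constructor
  · rw [injective_iff_map_eq_zero]
    intro q hq
    obtain ⟨k, x, hx, rfl⟩ := exists_frac_decomp ψ hz hbij q
    simp only [map_sum, map_frac ψ hz θ hθ] at hq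
    refine sum_eq_zero fun i hi ↦ ?_
    have hxi : x i = 0 := by
      have h := congrArg (GradedRing.proj 𝒜 i) hq
      rw [map_sum, map_zero] at h
      simp only [GradedRing.proj_apply] at h
      rw [sum_eq_single i (fun j _ hj ↦ decompose_of_mem_ne 𝒜 (hx j) hj)
        (fun h' ↦ absurd hi h'), decompose_of_mem_same 𝒜 (hx i)] at h
      exact h
    refine HomogeneousLocalization.val_injective _ ?_
    rw [val_frac, hxi, map_zero, Localization.mk_zero, HomogeneousLocalization.val_zero]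
  · intro a
    classical
    refine ⟨∑ i ∈ (decompose 𝒜 a).support, frac ψ hz i _ (decompose 𝒜 a i).2, ?_⟩
    simp only [map_sum, map_frac ψ hz θ hθ]
    exact sum_support_decompose 𝒜 a

include hbij in
/-- A hom out of `Away ℬ z` is determined by its values on the fractions `ψ x / z ^ k`. -/
theorem away_hom_ext {C : Type*} [CommRing C] {f g : Away ℬ z →+* C}
    (h : ∀ (k : ℕ) (x : A) (hx : x ∈ 𝒜 k), f (frac ψ hz k x hx) = g (frac ψ hz k x hx)) :
    f = g := by
  ext q
  obtain ⟨k, x, hx, rfl⟩ := exists_frac_decomp ψ hz hbij q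
  simp only [map_sum]
  exact sum_congr rfl fun i _ ↦ h i _ _

include hz hbij in
theorem away_awayMap_injective {d : ℕ} {g : B} (hg : g ∈ ℬ d) {x : B} (hx : x = g * z) :
    Function.Injective (awayMap ℬ hz hx : Away ℬ g → Away ℬ x) := by
  have hz0 : z ∈ nonZeroDivisors B := mem_nonZeroDivisors_iff_right.mpr fun b hb ↦ by
    obtain ⟨p, rfl⟩ := hbij.2 b
    have : Polynomial.eval₂RingHom ψ.toRingHom z (p * Polynomial.X) = 0 := by
      rw [map_mul, Polynomial.coe_eval₂RingHom, Polynomial.eval₂_X]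
      exact hb
    have h0 := hbij.1 (this.trans (map_zero _).symm)
    have : p = 0 := Polynomial.ext fun n ↦ by
      rw [← Polynomial.coeff_mul_X, h0, Polynomial.coeff_zero, Polynomial.coeff_zero]
    rw [this, map_zero]
  rw [injective_iff_map_eq_zero]
  intro q hq
  obtain ⟨n, a, ha, rfl⟩ := Away.mk_surjective ℬ hg q
  refine HomogeneousLocalization.val_injective _ ?_
  rw [HomogeneousLocalization.val_zero, Away.val_mk, Localization.mk_eq_mk',
    IsLocalization.mk'_eq_zero_iff]
  rw [awayMap_mk] at hq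
  replace hq := congrArg HomogeneousLocalization.val hq
  rw [HomogeneousLocalization.val_zero, Away.val_mk, Localization.mk_eq_mk',
    IsLocalization.mk'_eq_zero_iff] at hq
  obtain ⟨⟨_, k, rfl⟩, hk⟩ := hq
  refine ⟨⟨g ^ k, k, rfl⟩, ?_⟩
  have h1 : g ^ k * a * z ^ (k + n) = 0 := by
    calc g ^ k * a * z ^ (k + n) = (g * z) ^ k * (a * z ^ n) := by rw [mul_pow, pow_add]; ring
      _ = 0 := by rw [← hx]; exact hk
  exact (mul_right_mem_nonZeroDivisors_eq_zero_iff (pow_mem hz0 (k + n))).mp h1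

end Groth.Agent.RelConeLib
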