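import Groth.Agent.RelConeLib.AffRetraction
import Groth.Agent.FibreLib.Proj

/-! Polynomial and Laurent charts of the retractions of the pointed cones over a general base. -/

set_option autoImplicit false
set_option linter.unusedSectionVars false

namespace Groth.Agent.RelConeLib

open CategoryTheory CategoryTheory.Limits AlgebraicGeometry TopologicalSpace Opposite
open HomogeneousLocalization Graded
open scoped HomogeneousIdeal

universe u

section toLoc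

variable {τ B : Type u} [CommRing B] [SetLike τ B] [AddSubgroupClass τ B] {ℬ : ℕ → τ} [GradedRing ℬ]
  {L : Type u} [CommRing L] (e : B →+* L)

/-- The map out of `ℬ_(g)` induced by a homomorphism inverting `g`. -/
noncomputable def awayLift (g : B) (hg : IsUnit (e g)) : Away ℬ g →+* L :=
  (IsLocalization.Away.lift g hg).comp (algebraMap (Away ℬ g) (Localization.Away g))

theorem awayLift_mk {d : ℕ} {g : B} (hd : g ∈ ℬ d) (hg : IsUnit (e g)) (n : ℕ) (b : B)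
    (hb : b ∈ ℬ (n • d)) : awayLift e g hg (Away.mk ℬ hd n b hb) * e g ^ n = e b := by
  rw [awayLift, RingHom.comp_apply, HomogeneousLocalization.algebraMap_apply, Away.val_mk,
    Localization.mk_eq_mk', IsLocalization.Away.lift, ← map_pow]
  have := IsLocalization.mk'_spec (Localization.Away g) b
    (⟨g ^ n, n, rfl⟩ : Submonoid.powers g)
  have h2 := congrArg (IsLocalization.Away.lift g hg) this
  rw [map_mul, IsLocalization.Away.lift_eq, IsLocalization.Away.lift_eq] at h2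
  exact h2

theorem awayLift_comp_awayMap {d d' : ℕ} {g h x : B} (hd : g ∈ ℬ d) (hh : h ∈ ℬ d') (hx : x = g * h)
    (hg : IsUnit (e g)) (hxu : IsUnit (e x)) :
    (awayLift (ℬ := ℬ) e x hxu).comp (awayMap ℬ hh hx) = awayLift e g hg := by
  refine RingHom.ext fun q ↦ ?_
  obtain ⟨n, b, hb, rfl⟩ := Away.mk_surjective ℬ hd q
  refine (hxu.pow n).mul_right_cancel ?_
  rw [RingHom.comp_apply, awayMap_mk, awayLift_mk, map_mul, map_pow, hx, map_mul, mul_pow, ← mul_assoc,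
    awayLift_mk]

end toLoc

variable {Y PC P : Scheme.{u}} (𝒮 𝒮h : RelProj.QCGrAlg Y)
  (ι : 𝒮.toQCAlg ⟶ 𝒮h.toQCAlg) (z : 𝒮h.presheaf.obj (op ⊤)) (hz : RelCone.IsPolyOver 𝒮 𝒮h ι z)
  (pC : PC ⟶ Y)
  (chartC : ∀ (U : Y.Opens) (hU : IsAffineOpen U), (((pC ⁻¹ᵁ U : PC.Opens) : Scheme.{u}) ≅ Proj (𝒮h.deg U hU)))
  (hPC : RelProj.IsRelProj 𝒮h pC chartC)
  (p : P ⟶ Y)
  (chart : ∀ (U : Y.Opens) (hU : IsAffineOpen U), (((p ⁻¹ᵁ U : P.Opens) : Scheme.{u}) ≅ Proj (𝒮.deg U hU)))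
  (hP : RelProj.IsRelProj 𝒮 p chart)

theorem irrelevant_le_span_degOne (hgen : 𝒮.IsGenDegOne) (U : Y.Opens) (hU : IsAffineOpen U) :
    ((𝒮.deg U hU)₊).toIdeal ≤ Ideal.span (𝒮.deg U hU 1 : Set _) := by
  intro a ha
  let I : Ideal (𝒮.presheaf.obj (op U)) := Ideal.span (𝒮.deg U hU 1 : Set _)
  let pr : 𝒮.presheaf.obj (op U) →+* 𝒮.presheaf.obj (op U) := GradedRing.projZeroRingHom (𝒮.deg U hU)
  have h : Set.EqOn ((Ideal.Quotient.mk I).comp pr) (Ideal.Quotient.mk I)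
      ((𝒮.deg U hU 0 : Set _) ∪ (𝒮.deg U hU 1 : Set _)) := by
    rintro x (hx | hx)
    · show Ideal.Quotient.mk I (pr x) = _
      rw [show pr x = x from DirectSum.decompose_of_mem_same _ hx]
    · show Ideal.Quotient.mk I (pr x) = _
      rw [show pr x = 0 from DirectSum.decompose_of_mem_ne _ hx one_ne_zero, map_zero]
      exact (Ideal.Quotient.eq_zero_iff_mem.mpr (Ideal.subset_span hx)).symm
  have h' := RingHom.eqOn_set_closure h (show a ∈ Subring.closure _ by rw [hgen U hU]; trivial)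
  have h0 : pr a = 0 := ha
  rw [RingHom.comp_apply, h0, map_zero] at h'
  exact Ideal.Quotient.eq_zero_iff_mem.mp h'.symm

theorem exists_chart_mem (hgen : 𝒮.IsGenDegOne) (x : P) :
    ∃ k : Σ U : Y.affineOpens, {f // f ∈ 𝒮.deg U.1 U.2 1},
      x ∈ Set.range (Proj.awayι (𝒮.deg k.1.1 k.1.2) k.2.1 k.2.2 one_pos ≫ RelProj.emb p chart k.1.1 k.1.2) := by
  obtain ⟨⟨U, hU⟩, hx⟩ := RelSpecLib.affineOpens_cover (p x)
  obtain ⟨y, rfl⟩ := exists_emb_eq 𝒮 p chart U hU x hx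
  obtain ⟨f, hf, hy⟩ := FibreLib.exists_degOne_notMem (irrelevant_le_span_degOne 𝒮 hgen U hU) y
  obtain ⟨w, hw⟩ := (FibreLib.mem_range_awayι_iff hf one_pos y).mpr hy
  exact ⟨⟨⟨U, hU⟩, f, hf⟩, w, congrArg (RelProj.emb p chart U hU) hw⟩

theorem emb_opensRange (U : Y.Opens) (hU : IsAffineOpen U) :
    (RelProj.emb p chart U hU).opensRange = p ⁻¹ᵁ U := by
  ext c
  exact ⟨fun ⟨y, hy⟩ ↦ hy ▸ emb_mem 𝒮 p chart U hU y, fun hc ↦ exists_emb_eq 𝒮 p chart U hU c hc⟩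

theorem isPullback_domEmb (U : Y.Opens) (hU : IsAffineOpen U) :
    IsPullback (domEmb 𝒮 𝒮h ι z hz pC chartC U hU) (ProjLib.domMap (ιAt 𝒮 𝒮h ι z hz U hU))
      (retr 𝒮 𝒮h ι z hz pC chartC hPC p chart hP) (RelProj.emb p chart U hU) :=
  (IsOpenImmersion.isPullback (ProjLib.domMap (ιAt 𝒮 𝒮h ι z hz U hU))
    (domEmb 𝒮 𝒮h ι z hz pC chartC U hU) (RelProj.emb p chart U hU)
    (retr 𝒮 𝒮h ι z hz pC chartC hPC p chart hP) (domEmb_retr 𝒮 𝒮h ι z hz pC chartC hPC p chart hP U hU)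
    (by rw [emb_opensRange, preimage_retr 𝒮 𝒮h ι z hz pC chartC hPC p chart hP U hU])).flip

theorem isPullback_polyChart (U : Y.Opens) (hU : IsAffineOpen U) {f : 𝒮.presheaf.obj (op U)}
    (hf : f ∈ 𝒮.deg U hU 1) :
    IsPullback
      (FibreLib.polyChart (ιAt 𝒮 𝒮h ι z hz U hU) (hz.deg_z U hU) (hz.bij U hU) hf ≫
        domEmb 𝒮 𝒮h ι z hz pC chartC U hU)
      (Spec.map (CommRingCat.ofHom (Polynomial.C : Away (𝒮.deg U hU) f →+* Polynomial (Away (𝒮.deg U hU) f))))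
      (retr 𝒮 𝒮h ι z hz pC chartC hPC p chart hP)
      (Proj.awayι (𝒮.deg U hU) f hf one_pos ≫ RelProj.emb p chart U hU) :=
  (FibreLib.isPullback_polyChart (ιAt 𝒮 𝒮h ι z hz U hU) (hz.deg_z U hU) (hz.bij U hU) hf).paste_horiz
    (isPullback_domEmb 𝒮 𝒮h ι z hz pC chartC hPC p chart hP U hU)

variable (i : 𝒮.toQCAlg.spec ⟶ PC) (hi : RelCone.IsConeImm 𝒮 hz pC chartC i)
  (i' : (RelCone.pointedCone 𝒮 : 𝒮.toQCAlg.spec.Opens).toScheme ⟶ (pCone 𝒮 𝒮h ι z hz pC chartC).toScheme)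
  (hi' : i' ≫ (pCone 𝒮 𝒮h ι z hz pC chartC).ι = (RelCone.pointedCone 𝒮).ι ≫ i)

/-- `D(f) ⟶ C`. -/
noncomputable def coneOpenMap (U : Y.Opens) (hU : IsAffineOpen U) (f : 𝒮.presheaf.obj (op U)) :
    Spec (CommRingCat.of (Localization.Away f)) ⟶ 𝒮.toQCAlg.spec :=
  Spec.map (CommRingCat.ofHom (algebraMap (𝒮.presheaf.obj (op U)) (Localization.Away f))) ≫
    𝒮.toQCAlg.ι U hU

theorem range_coneOpenMap (U : Y.Opens) (hU : IsAffineOpen U) (f : 𝒮.presheaf.obj (op U)) :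
    Set.range (coneOpenMap 𝒮 U hU f) =
      𝒮.toQCAlg.ι U hU '' ((PrimeSpectrum.basicOpen f : Opens (PrimeSpectrum (𝒮.presheaf.obj (op U)))) :
        Set (PrimeSpectrum (𝒮.presheaf.obj (op U)))) := by
  rw [← PrimeSpectrum.localization_away_comap_range (Localization.Away f) f]
  exact Set.range_comp (𝒮.toQCAlg.ι U hU)
    (PrimeSpectrum.comap (algebraMap (𝒮.presheaf.obj (op U)) (Localization.Away f)))

theorem range_coneOpenMap_subset (U : Y.Opens) (hU : IsAffineOpen U) {f : 𝒮.presheaf.obj (op U)}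
    {d : ℕ} (hd : 0 < d) (hf : f ∈ 𝒮.deg U hU d) :
    Set.range (coneOpenMap 𝒮 U hU f) ⊆ Set.range (RelCone.pointedCone 𝒮).ι := by
  rw [range_coneOpenMap, Scheme.Opens.range_ι]
  rintro _ ⟨q, hq, rfl⟩
  exact (mem_pointedCone_iff 𝒮 hU q).mpr ((mem_vertexCompl_iff 𝒮 hU q).mpr
    fun h ↦ hq (h (ProjLib.mem_irrelevant_of_pos _ hd hf)))

instance (U : Y.Opens) (hU : IsAffineOpen U) (f : 𝒮.presheaf.obj (op U)) :
    IsOpenImmersion (coneOpenMap 𝒮 U hU f) := by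
  have : IsOpenImmersion (Spec.map (CommRingCat.ofHom
      (algebraMap (𝒮.presheaf.obj (op U)) (Localization.Away f)))) :=
    IsOpenImmersion.of_isLocalization f
  unfold coneOpenMap
  infer_instance

/-- `D(f) ⟶ E`. -/
noncomputable def coneChart (U : Y.Opens) (hU : IsAffineOpen U) {f : 𝒮.presheaf.obj (op U)}
    {d : ℕ} (hd : 0 < d) (hf : f ∈ 𝒮.deg U hU d) :
    Spec (CommRingCat.of (Localization.Away f)) ⟶ (RelCone.pointedCone 𝒮 : 𝒮.toQCAlg.spec.Opens).toScheme :=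
  IsOpenImmersion.lift (RelCone.pointedCone 𝒮).ι (coneOpenMap 𝒮 U hU f)
    (range_coneOpenMap_subset 𝒮 U hU hd hf)

@[reassoc]
theorem coneChart_ι (U : Y.Opens) (hU : IsAffineOpen U) {f : 𝒮.presheaf.obj (op U)}
    {d : ℕ} (hd : 0 < d) (hf : f ∈ 𝒮.deg U hU d) :
    coneChart 𝒮 U hU hd hf ≫ (RelCone.pointedCone 𝒮).ι = coneOpenMap 𝒮 U hU f :=
  IsOpenImmersion.lift_fac _ _ _

instance (U : Y.Opens) (hU : IsAffineOpen U) {f : 𝒮.presheaf.obj (op U)}
    {d : ℕ} (hd : 0 < d) (hf : f ∈ 𝒮.deg U hU d) : IsOpenImmersion (coneChart 𝒮 U hU hd hf) := by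
  have : IsOpenImmersion (coneChart 𝒮 U hU hd hf ≫ (RelCone.pointedCone 𝒮).ι) := by
    rw [coneChart_ι]; infer_instance
  exact IsOpenImmersion.of_comp _ (RelCone.pointedCone 𝒮).ι

include hi hi' in
theorem coneChart_affRetr (U : Y.Opens) (hU : IsAffineOpen U) {f : 𝒮.presheaf.obj (op U)}
    {d : ℕ} (hd : 0 < d) (hf : f ∈ 𝒮.deg U hU d) :
    coneChart 𝒮 U hU hd hf ≫ i' ≫ retr 𝒮 𝒮h ι z hz pC chartC hPC p chart hP =
      Spec.map (CommRingCat.ofHom (algebraMap (Away (𝒮.deg U hU) f) (Localization.Away f))) ≫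
        Proj.awayι (𝒮.deg U hU) f hf hd ≫ RelProj.emb p chart U hU := by
  let e := (algebraMap (𝒮.presheaf.obj (op U)) (Localization.Away f)).comp (hz.evalOne U hU)
  let g := ιAt 𝒮 𝒮h ι z hz U hU f
  let w := zAt 𝒮h z U
  have hw1 : hz.evalOne U hU w = 1 := hz.evalOne_z U hU
  have hew : IsUnit (e w) := by
    simp only [e, RingHom.comp_apply, hw1, map_one]; exact isUnit_one
  have hge : hz.evalOne U hU g = f := hz.evalOne_ι U hU f
  have heg : IsUnit (e g) := by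
    simp only [e, RingHom.comp_apply, hge]; exact IsLocalization.Away.algebraMap_isUnit f
  have hexx : IsUnit (e (w * g)) := by rw [map_mul]; exact hew.mul heg
  have hex : w * g = g * w := mul_comm _ _
  have hθ : (algebraMap (𝒮.presheaf.obj (op U)) (Localization.Away f)).comp (hz.awayZToBase U hU) =
      awayLift (ℬ := 𝒮h.deg U hU) e w hew := by
    refine RingHom.ext fun q ↦ ?_
    obtain ⟨n, b, hb, rfl⟩ := Away.mk_surjective (𝒮h.deg U hU) (hz.deg_z U hU) q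
    refine (hew.pow n).mul_right_cancel ?_
    rw [awayLift_mk, RingHom.comp_apply, hz.awayZToBase_of_val U hU _ b n (Away.val_mk ..)]
    simp only [e, RingHom.comp_apply, hw1, map_one, one_pow, mul_one]
  have h1 : coneChart 𝒮 U hU hd hf ≫ i' =
      (Spec.map (CommRingCat.ofHom (awayLift (ℬ := 𝒮h.deg U hU) e g heg)) ≫
        ProjLib.domChart (ιAt 𝒮 𝒮h ι z hz U hU) hd hf _ rfl) ≫ domEmb 𝒮 𝒮h ι z hz pC chartC U hU := by
    rw [← cancel_mono (pCone 𝒮 𝒮h ι z hz pC chartC).ι]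
    simp only [Category.assoc]
    rw [hi', coneChart_ι_assoc, coneOpenMap, Category.assoc, hi U hU, domEmb_ι,
      ProjLib.domChart_ι_assoc, ← Spec.map_comp_assoc, ← CommRingCat.ofHom_comp, hθ,
      ← awayLift_comp_awayMap e (hz.deg_z U hU) (map_mem (ιAt 𝒮 𝒮h ι z hz U hU) hf) rfl hew hexx,
      CommRingCat.ofHom_comp, Spec.map_comp_assoc,
      ← awayLift_comp_awayMap e (map_mem (ιAt 𝒮 𝒮h ι z hz U hU) hf) (hz.deg_z U hU) hex heg hexx,
      CommRingCat.ofHom_comp, Spec.map_comp_assoc, Proj.SpecMap_awayMap_awayι_assoc,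
      Proj.SpecMap_awayMap_awayι_assoc]
    rfl
  rw [reassoc_of% h1, domEmb_retr, ProjLib.domChart_domMap_assoc, ProjLib.awayMapTo_rfl,
    ← Spec.map_comp_assoc, ← CommRingCat.ofHom_comp]
  congr 3
  refine RingHom.ext fun q ↦ ?_
  obtain ⟨n, a, ha, rfl⟩ := Away.mk_surjective (𝒮.deg U hU) hf q
  refine (heg.pow n).mul_right_cancel ?_
  rw [RingHom.comp_apply, Away.map_mk, awayLift_mk]
  simp only [e, RingHom.comp_apply, hge]
  rw [HomogeneousLocalization.algebraMap_apply, Away.val_mk, Localization.mk_eq_mk', ← map_pow]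
  refine Eq.trans (congrArg _ (hz.evalOne_ι U hU a)) ?_
  exact (IsLocalization.mk'_spec (Localization.Away f) a (⟨f ^ n, n, rfl⟩ : Submonoid.powers f)).symm

include hi hi' hPC in
theorem coneChart_opensRange (U : Y.Opens) (hU : IsAffineOpen U) {f : 𝒮.presheaf.obj (op U)}
    {d : ℕ} (hd : 0 < d) (hf : f ∈ 𝒮.deg U hU d) :
    (coneChart 𝒮 U hU hd hf).opensRange =
      (i' ≫ retr 𝒮 𝒮h ι z hz pC chartC hPC p chart hP) ⁻¹ᵁ
        (Proj.awayι (𝒮.deg U hU) f hf hd ≫ RelProj.emb p chart U hU).opensRange := by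
  apply Opens.ext
  ext c
  constructor
  · rintro ⟨w, rfl⟩
    show (i' ≫ retr 𝒮 𝒮h ι z hz pC chartC hPC p chart hP) (coneChart 𝒮 U hU hd hf w) ∈ Set.range _
    rw [← Scheme.Hom.comp_apply, coneChart_affRetr 𝒮 𝒮h ι z hz pC chartC hPC p chart hP i hi i' hi' U hU hd hf]
    exact ⟨_, rfl⟩
  · rintro ⟨w, hw⟩
    have hw' : RelProj.emb p chart U hU (Proj.awayι (𝒮.deg U hU) f hf hd w) =
        (i' ≫ retr 𝒮 𝒮h ι z hz pC chartC hPC p chart hP) c := hw
    have hπ : 𝒮.toQCAlg.π c.1 ∈ U := by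
      show ((RelCone.pointedCone 𝒮).ι ≫ 𝒮.toQCAlg.π) c ∈ U
      rw [← affRetr_comp 𝒮 𝒮h ι z hz pC chartC hPC i hi p chart hP i' hi',
        Scheme.Hom.comp_apply, ← hw']
      exact emb_mem 𝒮 p chart U hU _
    obtain ⟨q, hq⟩ := RelSpecLib.exists_chart_eq _ hU _ hπ
    have hqv := (mem_pointedCone_iff 𝒮 hU q).mp (hq ▸ c.2)
    rw [affRetr_apply 𝒮 𝒮h ι z hz pC chartC hPC i hi p chart hP i' hi' U hU q hqv c hq.symm] at hw'
    have h := (RelProj.emb p chart U hU).isOpenEmbedding.injective hw'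
    have hm : Proj.awayι (𝒮.deg U hU) f hf hd w ∈ Proj.basicOpen (𝒮.deg U hU) f := by
      rw [← Proj.opensRange_awayι (𝒮.deg U hU) f hf hd]; exact ⟨w, rfl⟩
    rw [h] at hm
    have : c.1 ∈ Set.range (coneOpenMap 𝒮 U hU f) := by
      rw [range_coneOpenMap]
      exact ⟨q, (mem_basicOpen_domMap_conePt 𝒮 𝒮h ι z hz U hU q hqv hd hf).mp hm, hq⟩
    obtain ⟨v, hv⟩ := this
    refine ⟨v, (RelCone.pointedCone 𝒮).ι.isOpenEmbedding.injective ?_⟩
    rw [← Scheme.Hom.comp_apply, coneChart_ι]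
    exact hv

/-- The Laurent chart. -/
noncomputable def laurentChart (U : Y.Opens) (hU : IsAffineOpen U) {f : 𝒮.presheaf.obj (op U)}
    (hf : f ∈ 𝒮.deg U hU 1) :
    Spec (CommRingCat.of (LaurentPolynomial (Away (𝒮.deg U hU) f))) ⟶
      (RelCone.pointedCone 𝒮 : 𝒮.toQCAlg.spec.Opens).toScheme :=
  (Scheme.Spec.mapIso (ProjLib.laurentEquiv hf).toCommRingCatIso.op).inv ≫ coneChart 𝒮 U hU one_pos hf

include hi hi' hPC in
theorem isPullback_laurentChart (U : Y.Opens) (hU : IsAffineOpen U) {f : 𝒮.presheaf.obj (op U)}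
    (hf : f ∈ 𝒮.deg U hU 1) :
    IsPullback (laurentChart 𝒮 U hU hf)
      (Spec.map (CommRingCat.ofHom
        (LaurentPolynomial.C : Away (𝒮.deg U hU) f →+* LaurentPolynomial (Away (𝒮.deg U hU) f))))
      (i' ≫ retr 𝒮 𝒮h ι z hz pC chartC hPC p chart hP)
      (Proj.awayι (𝒮.deg U hU) f hf one_pos ≫ RelProj.emb p chart U hU) := by
  have : IsOpenImmersion (laurentChart 𝒮 U hU hf) := by unfold laurentChart; infer_instance
  refine FibreLib.isPullback_chart _ _ _ _ ?_ ?_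
  · dsimp only [laurentChart]
    rw [Category.assoc, coneChart_affRetr 𝒮 𝒮h ι z hz pC chartC hPC p chart hP i hi i' hi' U hU one_pos hf,
      ← ProjLib.laurentEquiv_comp_C hf, ← Category.assoc]
    congr 1
    simp only [Functor.mapIso_inv, Scheme.Spec_map, Iso.op_inv, Quiver.Hom.unop_op]
    rw [← Spec.map_comp]
    congr 1
    refine CommRingCat.hom_ext (RingHom.ext fun q ↦ ?_)
    exact (ProjLib.laurentEquiv hf).symm_apply_apply _
  · exact ((coneChart_opensRange 𝒮 𝒮h ι z hz pC chartC hPC p chart hP i hi i' hi' U hU one_pos hf).symm.trans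
      (Scheme.Hom.opensRange_comp_of_isIso _ _).symm)

end Groth.Agent.RelConeLib
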