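import Groth.Agent.RelConeLib.ConeImm
import Groth.Agent.ProjLib.GradedGen

/-! The locus at infinity of the projective cone: image of `Proj S ⟶ Proj S[z]`, `z ↦ 0`. -/

set_option autoImplicit false
set_option linter.unusedSectionVars false

namespace Groth.Agent.RelConeLib

open CategoryTheory CategoryTheory.Limits AlgebraicGeometry TopologicalSpace Opposite
open scoped HomogeneousIdeal

universe u

section ring

variable {A σ : Type u} [CommRing A] [SetLike σ A] [AddSubgroupClass σ A] {𝒜 : ℕ → σ} [GradedRing 𝒜]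
variable {B τ : Type u} [CommRing B] [SetLike τ B] [AddSubgroupClass τ B] {ℬ : ℕ → τ} [GradedRing ℬ]
variable (ψ : 𝒜 →+*ᵍ ℬ) (φ : ℬ →+*ᵍ 𝒜) (hψφ : ∀ a, φ (ψ a) = a) {z : B} (hz : φ z = 0)
  (hsurj : Function.Surjective (Polynomial.eval₂RingHom ψ.toRingHom z))

include hψφ hz hsurj in
theorem sub_retr_mem_span (w : B) : w - ψ (φ w) ∈ Ideal.span {z} := by
  obtain ⟨p, rfl⟩ := hsurj w
  have h : ((Ideal.Quotient.mk (Ideal.span {z})).comp (ψ.toRingHom.comp φ.toRingHom)).comp
        (Polynomial.eval₂RingHom ψ.toRingHom z) =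
      (Ideal.Quotient.mk (Ideal.span {z})).comp (Polynomial.eval₂RingHom ψ.toRingHom z) := by
    refine Polynomial.ringHom_ext (fun a ↦ ?_) ?_
    · simp [hψφ]
    · have : Ideal.Quotient.mk (Ideal.span {z}) z = 0 :=
        Ideal.Quotient.eq_zero_iff_mem.mpr (Ideal.mem_span_singleton_self z)
      simp [hz, this]
  exact Ideal.Quotient.eq.mp (RingHom.congr_fun h p).symm

include hψφ hz hsurj in
theorem mem_range_map_retr_iff (hirr : 𝒜₊ ≤ (ℬ₊).map φ) (y : Proj ℬ) :
    y ∈ Set.range (Proj.map φ hirr) ↔ z ∈ y.asHomogeneousIdeal := by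
  constructor
  · rintro ⟨x, rfl⟩
    show φ z ∈ x.asHomogeneousIdeal
    rw [hz]
    exact zero_mem _
  · intro hzy
    have hmem : ∀ w : B, ψ (φ w) ∈ y.asHomogeneousIdeal ↔ w ∈ y.asHomogeneousIdeal := by
      intro w
      have hd : w - ψ (φ w) ∈ y.asHomogeneousIdeal.toIdeal :=
        (Ideal.span_singleton_le_iff_mem _).mpr hzy (sub_retr_mem_span ψ φ hψφ hz hsurj w)
      refine ⟨fun h ↦ ?_, fun h ↦ ?_⟩
      · have := add_mem hd h
        rwa [sub_add_cancel] at this
      · have := sub_mem (show w ∈ y.asHomogeneousIdeal.toIdeal from h) hd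
        rwa [sub_sub_cancel] at this
    have := y.isPrime
    let x : Proj 𝒜 :=
      { asHomogeneousIdeal := y.asHomogeneousIdeal.comap ψ
        isPrime := Ideal.IsPrime.comap ψ.toRingHom
        not_irrelevant_le := fun hle ↦ y.not_irrelevant_le
          (ProjLib.irrelevant_le_of_homogeneous ℬ fun n hn w hw ↦ (hmem w).mp
            (hle (ProjLib.mem_irrelevant_of_pos 𝒜 hn (φ.map_mem hw)))) }
    exact ⟨x, ProjectiveSpectrum.ext (HomogeneousIdeal.ext (Ideal.ext fun w ↦ hmem w))⟩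

end ring

end Groth.Agent.RelConeLib

namespace Groth.Agent.RelConeLib

open CategoryTheory CategoryTheory.Limits AlgebraicGeometry TopologicalSpace Opposite
open scoped HomogeneousIdeal

universe u

section chart

variable {A B σ τ : Type u} [CommRing A] [SetLike σ A] [AddSubgroupClass σ A] {𝒜 : ℕ → σ}
  [GradedRing 𝒜] [CommRing B] [SetLike τ B] [AddSubgroupClass τ B] {ℬ : ℕ → τ} [GradedRing ℬ]
  (ψ : 𝒜 →+*ᵍ ℬ) {z : B} (hz : z ∈ ℬ 1)
  (θ : CommRingCat.of (HomogeneousLocalization.Away ℬ z) ⟶ CommRingCat.of A)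
  (hθ : ∀ (q : HomogeneousLocalization.Away ℬ z) (k : ℕ) (x : A), x ∈ 𝒜 k →
    q.val = Localization.mk (ψ x) ⟨z ^ k, pow_mem (Submonoid.mem_powers z) k⟩ → θ.hom q = x)

include hθ in
theorem mem_coneImm_point_iff (q : Spec (CommRingCat.of A)) {k : ℕ} (hk : 0 < k) {a : A}
    (ha : a ∈ 𝒜 k) :
    ψ a ∈ (Proj.awayι ℬ z hz one_pos (Spec.map θ q)).asHomogeneousIdeal ↔ a ∈ q.asIdeal := by
  have h := SetLike.ext_iff.mp
    (Proj.awayι_preimage_basicOpen ℬ hz one_pos (ψ.map_mem ha) hk) (Spec.map θ q)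
  rw [← not_iff_not]
  refine Iff.trans h (not_congr ?_)
  have e : θ.hom (HomogeneousLocalization.Away.isLocalizationElem hz (ψ.map_mem ha)) = a := by
    refine hθ _ k a ha ?_
    rw [HomogeneousLocalization.Away.val_mk]
    congr 1
    exact pow_one _
  show θ.hom _ ∈ q.asIdeal ↔ _
  rw [e]

end chart

end Groth.Agent.RelConeLib
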