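import Mathlib
import Groth.Prelude.Def_RelSpec2
import Groth.Agent.RelSpecLib.Basic
import Groth.Agent.ProjLib.GradedGen
import Groth.Agent.ProjLib.AffineGlue

/-! Pointed affine cones over a general base. -/

set_option autoImplicit false

namespace Groth.Agent.RelConeLib

open CategoryTheory CategoryTheory.Limits AlgebraicGeometry TopologicalSpace Opposite
open scoped HomogeneousIdeal

universe u

variable {S : Scheme.{u}} (𝒮 : RelProj.QCGrAlg S)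

theorem mem_vertexCompl_iff {U : S.Opens} (hU : IsAffineOpen U)
    (q : Spec (𝒮.presheaf.obj (op U))) :
    q ∈ RelCone.vertexCompl (𝒮.deg U hU) ↔ ¬ ((𝒮.deg U hU)₊).toIdeal ≤ q.asIdeal :=
  Iff.rfl

theorem exists_eq_zero_add {U : S.Opens} (hU : IsAffineOpen U) (a : 𝒮.presheaf.obj (op U)) :
    ∃ a₀ a', a₀ ∈ 𝒮.deg U hU 0 ∧ a' ∈ ((𝒮.deg U hU)₊).toIdeal ∧ a = a₀ + a' := by
  refine ⟨GradedRing.proj (𝒮.deg U hU) 0 a, a - GradedRing.proj (𝒮.deg U hU) 0 a, ?_, ?_,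
    (add_sub_cancel _ _).symm⟩
  · rw [GradedRing.proj_apply]; exact SetLike.coe_mem _
  · show GradedRing.proj (𝒮.deg U hU) 0 (a - GradedRing.proj (𝒮.deg U hU) 0 a) = 0
    have hp : GradedRing.proj (𝒮.deg U hU) 0 (GradedRing.proj (𝒮.deg U hU) 0 a) =
        GradedRing.proj (𝒮.deg U hU) 0 a := by
      conv_lhs => rw [GradedRing.proj_apply]
      exact DirectSum.decompose_of_mem_same _ (by rw [GradedRing.proj_apply]; exact SetLike.coe_mem _)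
    rw [map_sub, hp, sub_self]

theorem eq_zero_of_mem_zero_of_mem_irrelevant {U : S.Opens} (hU : IsAffineOpen U)
    {a : 𝒮.presheaf.obj (op U)} (h : a ∈ 𝒮.deg U hU 0) (h' : a ∈ ((𝒮.deg U hU)₊).toIdeal) :
    a = 0 := by
  have e : GradedRing.proj (𝒮.deg U hU) 0 a = 0 := h'
  rw [GradedRing.proj_apply, DirectSum.decompose_of_mem_same _ h] at e
  exact e

theorem res_mem_irrelevant {U V : S.Opens} (hU : IsAffineOpen U) (hV : IsAffineOpen V) (i : V ≤ U)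
    {a : 𝒮.presheaf.obj (op U)} (ha : a ∈ ((𝒮.deg U hU)₊).toIdeal) :
    (𝒮.presheaf.map (homOfLE i).op).hom a ∈ ((𝒮.deg V hV)₊).toIdeal := by
  have key : ((𝒮.deg U hU)₊).toIdeal ≤
      ((𝒮.deg V hV)₊).toIdeal.comap (𝒮.presheaf.map (homOfLE i).op).hom :=
    Groth.Agent.ProjLib.irrelevant_le_of_homogeneous (𝒜 := 𝒮.deg U hU) fun n hn x hx ↦
      Groth.Agent.ProjLib.mem_irrelevant_of_pos (𝒜 := 𝒮.deg V hV) hn (𝒮.map_mem hU hV i hx)
  exact key ha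

theorem vertexCompl_res_basicOpen {U W : S.Opens} (hU : IsAffineOpen U) (hW : IsAffineOpen W)
    (r : Γ(S, U)) (hle : W ≤ U) (hWr : S.basicOpen r = W) (w : Spec (𝒮.presheaf.obj (op W))) :
    Spec.map (𝒮.presheaf.map (homOfLE hle).op) w ∈ RelCone.vertexCompl (𝒮.deg U hU) ↔
      w ∈ RelCone.vertexCompl (𝒮.deg W hW) := by
  subst hWr
  rw [mem_vertexCompl_iff, mem_vertexCompl_iff, not_iff_not]
  constructor
  · intro h
    let := (𝒮.presheaf.map (homOfLE hle).op).hom.toAlgebra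
    have hloc : IsLocalization.Away ((𝒮.str.app (op U)).hom r)
        (𝒮.presheaf.obj (op (S.basicOpen r))) := 𝒮.isQC U hU r
    refine Groth.Agent.ProjLib.irrelevant_le_of_homogeneous (𝒜 := 𝒮.deg _ hW) fun d hd x hx ↦ ?_
    obtain ⟨⟨a, ⟨_, n, rfl⟩⟩, ha⟩ :=
      IsLocalization.surj (Submonoid.powers ((𝒮.str.app (op U)).hom r)) x
    simp only [map_pow, RingHom.algebraMap_toAlgebra] at ha
    obtain ⟨a₀, a', ha₀, ha', rfl⟩ := exists_eq_zero_add 𝒮 hU a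
    rw [map_add] at ha
    have hrn : IsUnit ((𝒮.presheaf.map (homOfLE hle).op).hom ((𝒮.str.app (op U)).hom r) ^ n) :=
      (IsLocalization.Away.algebraMap_isUnit ((𝒮.str.app (op U)).hom r)
        (S := 𝒮.presheaf.obj (op (S.basicOpen r)))).pow n
    have h0 : (𝒮.presheaf.map (homOfLE hle).op).hom a₀ = 0 := by
      refine eq_zero_of_mem_zero_of_mem_irrelevant 𝒮 hW (𝒮.map_mem hU hW hle ha₀) ?_
      rw [eq_sub_iff_add_eq.mpr ha.symm]
      exact Ideal.sub_mem _ (Ideal.mul_mem_right _ _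
        (Groth.Agent.ProjLib.mem_irrelevant_of_pos (𝒜 := 𝒮.deg _ hW) hd hx))
        (res_mem_irrelevant 𝒮 hU hW hle ha')
    rw [h0, zero_add] at ha
    have : x * (𝒮.presheaf.map (homOfLE hle).op).hom ((𝒮.str.app (op U)).hom r) ^ n ∈ w.asIdeal := by
      rw [ha]; exact h ha'
    exact (Ideal.unit_mul_mem_iff_mem _ hrn).mp (by rwa [mul_comm] at this)
  · intro h a ha
    exact h (res_mem_irrelevant 𝒮 hU hW hle ha)

/-- The pointed cone, chart by chart. -/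
theorem mem_pointedCone_iff {U : S.Opens} (hU : IsAffineOpen U)
    (q : Spec (𝒮.presheaf.obj (op U))) :
    𝒮.toQCAlg.ι U hU q ∈ RelCone.pointedCone 𝒮 ↔ q ∈ RelCone.vertexCompl (𝒮.deg U hU) := by
  constructor
  · intro h
    obtain ⟨⟨V, hV⟩, q', hq', he⟩ := Opens.mem_iSup.mp h
    obtain ⟨r, s, hrs, hx⟩ := exists_basicOpen_le_affine_inter hU hV (𝒮.toQCAlg.π (𝒮.toQCAlg.ι U hU q))
      ⟨RelSpecLib.π_ι_mem _ U hU q, he ▸ RelSpecLib.π_ι_mem _ V hV q'⟩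
    obtain ⟨w, hw⟩ := RelSpecLib.exists_chart_eq 𝒮.toQCAlg (hU.basicOpen r) _ hx
    have eU : Spec.map (𝒮.presheaf.map (homOfLE (S.basicOpen_le r)).op) w = q :=
      (𝒮.toQCAlg.ι U hU).isOpenEmbedding.injective (by
        rw [← hw, ← Scheme.Hom.comp_apply]
        exact congrArg (fun g ↦ g w) (RelSpecLib.ι_res' 𝒮.toQCAlg hU (hU.basicOpen r) _))
    have hle : S.basicOpen r ≤ V := hrs ▸ S.basicOpen_le s
    have eV : Spec.map (𝒮.presheaf.map (homOfLE hle).op) w = q' :=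
      (𝒮.toQCAlg.ι V hV).isOpenEmbedding.injective (by
        rw [← Scheme.Hom.comp_apply]
        exact ((congrArg (fun g ↦ g w) (RelSpecLib.ι_res' 𝒮.toQCAlg hV (hU.basicOpen r) hle)).trans
          hw).trans he.symm)
    rw [← eV] at hq'
    have := (vertexCompl_res_basicOpen 𝒮 hV (hU.basicOpen r) s hle hrs.symm w).mp hq'
    rw [← eU]
    exact (vertexCompl_res_basicOpen 𝒮 hU (hU.basicOpen r) r _ rfl w).mpr this
  · intro h
    exact Opens.mem_iSup.mpr ⟨⟨U, hU⟩, q, h, rfl⟩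

section vertex

variable (h0 : RelCone.StrZeroBij 𝒮) (aug : 𝒮.toQCAlg ⟶ RelSpec.QCAlg.unit S)
  (haug : RelCone.IsAugmentation 𝒮 aug)

/-- The augmentation on sections, with values in functions on the base. -/
noncomputable abbrev augApp (U : S.Opens) : 𝒮.presheaf.obj (op U) ⟶ Γ(S, U) := aug.hom.app (op U)

theorem aug_str {U : S.Opens} (r : Γ(S, U)) :
    (augApp 𝒮 aug U).hom ((𝒮.str.app (op U)).hom r) = r :=
  ConcreteCategory.congr_hom (NatTrans.congr_app aug.comm (op U)) r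

include h0 haug in
theorem ker_aug {U : S.Opens} (hU : IsAffineOpen U) :
    RingHom.ker (augApp 𝒮 aug U).hom = ((𝒮.deg U hU)₊).toIdeal := by
  have hle : ((𝒮.deg U hU)₊).toIdeal ≤ RingHom.ker (augApp 𝒮 aug U).hom := by
    refine Groth.Agent.ProjLib.irrelevant_le_of_homogeneous (𝒜 := 𝒮.deg U hU) fun n hn x hx ↦ ?_
    obtain ⟨d, rfl⟩ : ∃ d, n = d + 1 := ⟨n - 1, by omega⟩
    exact haug U hU d x hx
  refine le_antisymm (fun a ha ↦ ?_) hle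
  obtain ⟨a₀, a', ha₀, ha', rfl⟩ := exists_eq_zero_add 𝒮 hU a
  obtain ⟨r, hr⟩ := (h0 U hU).2 ⟨a₀, ha₀⟩
  have hr' : (𝒮.str.app (op U)).hom r = a₀ := congrArg Subtype.val hr
  have : r = 0 := by
    rw [← aug_str 𝒮 aug r, hr']
    have h1 := RingHom.mem_ker.mp ha
    rw [map_add, RingHom.mem_ker.mp (hle ha'), add_zero] at h1
    exact h1
  rw [← hr', this, map_zero, zero_add]
  exact ha'

/-- The vertex over one affine open. -/
noncomputable def vertexPiece (U : S.Opens) (hU : IsAffineOpen U) :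
    ((𝟙 S) ⁻¹ᵁ U).toScheme ⟶ 𝒮.toQCAlg.spec :=
  hU.isoSpec.hom ≫ Spec.map (augApp 𝒮 aug U) ≫ 𝒮.toQCAlg.ι U hU

theorem isoSpec_hom_res {U V : S.Opens} (hU : IsAffineOpen U) (hV : IsAffineOpen V) (h : V ≤ U) :
    S.homOfLE h ≫ hU.isoSpec.hom = hV.isoSpec.hom ≫ Spec.map (S.presheaf.map (homOfLE h).op) := by
  rw [← cancel_mono hU.fromSpec, Category.assoc, Category.assoc, hU.map_fromSpec hV,
    IsAffineOpen.isoSpec_hom_fromSpec, IsAffineOpen.isoSpec_hom_fromSpec, Scheme.homOfLE_ι]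

theorem vertexPiece_compat (U : S.Opens) (hU : IsAffineOpen U) (r : Γ(S, U)) :
    S.homOfLE ((𝟙 S : S ⟶ S).preimage_mono (S.basicOpen_le r)) ≫ vertexPiece 𝒮 aug U hU =
      vertexPiece 𝒮 aug (S.basicOpen r) (hU.basicOpen r) := by
  have hn : 𝒮.presheaf.map (homOfLE (S.basicOpen_le r)).op ≫ augApp 𝒮 aug (S.basicOpen r) =
      augApp 𝒮 aug U ≫ S.presheaf.map (homOfLE (S.basicOpen_le r)).op :=
    aug.hom.naturality _
  have h := isoSpec_hom_res hU (hU.basicOpen r) (S.basicOpen_le r)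
  calc S.homOfLE ((𝟙 S : S ⟶ S).preimage_mono (S.basicOpen_le r)) ≫ vertexPiece 𝒮 aug U hU
      = (S.homOfLE (S.basicOpen_le r) ≫ hU.isoSpec.hom) ≫ Spec.map (augApp 𝒮 aug U) ≫
          𝒮.toQCAlg.ι U hU := (Category.assoc _ _ _).symm
    _ = (hU.basicOpen r).isoSpec.hom ≫ Spec.map (augApp 𝒮 aug (S.basicOpen r)) ≫
          𝒮.toQCAlg.ι _ (hU.basicOpen r) := by
        rw [h, Category.assoc, ← Spec.map_comp_assoc]
        erw [← hn]
        rw [Spec.map_comp_assoc, RelSpecLib.ι_res_basicOpen]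
    _ = _ := rfl

/-- The vertex section. -/
noncomputable def vertex : S ⟶ 𝒮.toQCAlg.spec :=
  ProjLib.glueAffine (𝟙 S) (vertexPiece 𝒮 aug) (vertexPiece_compat 𝒮 aug)

theorem fromSpec_vertex (U : S.Opens) (hU : IsAffineOpen U) :
    hU.fromSpec ≫ vertex 𝒮 aug = Spec.map (augApp 𝒮 aug U) ≫ 𝒮.toQCAlg.ι U hU := by
  have h := ProjLib.ι_glueAffine (𝟙 S) (vertexPiece 𝒮 aug) (vertexPiece_compat 𝒮 aug) U hU
  rw [← hU.isoSpec_inv_ι, Category.assoc]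
  exact (congrArg (hU.isoSpec.inv ≫ ·) h).trans (hU.isoSpec.inv_hom_id_assoc _)

theorem existsUnique_isVertex :
    (∃! ε : S ⟶ 𝒮.toQCAlg.spec, RelCone.IsVertex 𝒮 aug ε) ∧
      ∀ ε : S ⟶ 𝒮.toQCAlg.spec, RelCone.IsVertex 𝒮 aug ε → IsClosedImmersion ε := by
  have hext : ∀ {Z : Scheme.{u}} (f g : S ⟶ Z),
      (∀ (U : S.Opens) (hU : IsAffineOpen U), hU.fromSpec ≫ f = hU.fromSpec ≫ g) → f = g :=
    fun {Z} f g h ↦ Scheme.hom_ext_of_forall f g fun x ↦ by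
      obtain ⟨⟨U, hU'⟩, hx⟩ := RelSpecLib.affineOpens_cover x
      have hU : IsAffineOpen U := hU'
      refine ⟨U, hx, ?_⟩
      rw [← cancel_epi hU.isoSpec.inv]
      simpa [reassoc_of% hU.isoSpec_inv_ι] using h U hU
  refine ⟨⟨vertex 𝒮 aug, ⟨?_, fromSpec_vertex 𝒮 aug⟩, fun ε hε ↦ ?_⟩, fun ε hε ↦ ?_⟩
  · refine hext _ _ fun U hU ↦ ?_
    have e : 𝒮.str.app (op U) ≫ augApp 𝒮 aug U = 𝟙 _ := NatTrans.congr_app aug.comm (op U)
    rw [reassoc_of% (fromSpec_vertex 𝒮 aug U hU), 𝒮.toQCAlg.ι_π, ← Spec.map_comp_assoc]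
    erw [e]
    simp
  · exact hext _ _ fun U hU ↦ (hε.chart U hU).trans (fromSpec_vertex 𝒮 aug U hU).symm
  · have : IsClosedImmersion (ε ≫ 𝒮.toQCAlg.π) := by rw [hε.comp_π]; infer_instance
    exact IsClosedImmersion.of_comp ε 𝒮.toQCAlg.π

include h0 haug in
theorem pointedCone_eq_compl_range (ε : S ⟶ 𝒮.toQCAlg.spec) (hε : RelCone.IsVertex 𝒮 aug ε) :
    ((RelCone.pointedCone 𝒮 : 𝒮.toQCAlg.spec.Opens) : Set 𝒮.toQCAlg.spec) = (Set.range ε.base)ᶜ := by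
  ext c
  obtain ⟨⟨U, hU'⟩, hc⟩ := RelSpecLib.affineOpens_cover (𝒮.toQCAlg.π c)
  have hU : IsAffineOpen U := hU'
  obtain ⟨q, rfl⟩ := RelSpecLib.exists_chart_eq _ hU c hc
  have hchart : hU.fromSpec ≫ ε = Spec.map (augApp 𝒮 aug U) ≫ 𝒮.toQCAlg.ι U hU := hε.chart U hU
  rw [SetLike.mem_coe, mem_pointedCone_iff, mem_vertexCompl_iff, Set.mem_compl_iff, not_iff_not,
    ← ker_aug 𝒮 h0 aug haug hU]
  constructor
  · intro h
    have hs : Function.Surjective (augApp 𝒮 aug U).hom := fun r ↦ ⟨_, aug_str 𝒮 aug r⟩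
    have : q ∈ Set.range (PrimeSpectrum.comap (augApp 𝒮 aug U).hom) := by
      rw [range_comap_of_surjective _ _ hs]; exact h
    obtain ⟨p, hp⟩ := this
    refine ⟨hU.fromSpec p, ?_⟩
    show ε (hU.fromSpec p) = _
    rw [← Scheme.Hom.comp_apply, hchart, Scheme.Hom.comp_apply]
    exact congrArg _ hp
  · rintro ⟨y, hy⟩
    have hyU : y ∈ U := by
      have : 𝒮.toQCAlg.π (ε y) = y := by rw [← Scheme.Hom.comp_apply, hε.comp_π]; rfl
      have hy' : ε y = 𝒮.toQCAlg.ι U hU q := hy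
      exact this ▸ hy' ▸ hc
    obtain ⟨p, rfl⟩ : y ∈ Set.range hU.fromSpec := by rwa [hU.range_fromSpec]
    have : Spec.map (augApp 𝒮 aug U) p = q := by
      refine (𝒮.toQCAlg.ι U hU).isOpenEmbedding.injective (Eq.trans ?_ hy)
      show _ = ε (hU.fromSpec p)
      rw [← Scheme.Hom.comp_apply hU.fromSpec, hchart]
      rfl
    rw [← this]
    intro a ha
    show (augApp 𝒮 aug U).hom a ∈ p.asIdeal
    rw [RingHom.mem_ker.mp ha]
    exact zero_mem _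

end vertex

section qMap

variable {S' : Scheme.{u}} (q : S' ⟶ S) (𝒮' : RelProj.QCGrAlg S')
    (u : 𝒮.presheaf ⟶ q.base _* 𝒮'.presheaf)
    (φ : ∀ (U : S.Opens) (hU : IsAffineOpen U) (U' : S'.Opens) (hU' : IsAffineOpen U') (_ : U' ≤ q ⁻¹ᵁ U),
      𝒮.deg U hU →+*ᵍ 𝒮'.deg U' hU')
    (hφ : ∀ (U : S.Opens) (hU : IsAffineOpen U) (U' : S'.Opens) (hU' : IsAffineOpen U') (hle : U' ≤ q ⁻¹ᵁ U),
      (φ U hU U' hU' hle).toRingHom =
        ((u.app (op U) : 𝒮.presheaf.obj (op U) ⟶ 𝒮'.presheaf.obj (op (q ⁻¹ᵁ U))) ≫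
          𝒮'.presheaf.map (homOfLE hle).op).hom)
    (Φ : 𝒮'.toQCAlg.spec ⟶ 𝒮.toQCAlg.spec)
    (hΦ : ∀ (U : S.Opens) (hU : IsAffineOpen U) (U' : S'.Opens) (hU' : IsAffineOpen U') (hle : U' ≤ q ⁻¹ᵁ U),
      𝒮'.toQCAlg.ι U' hU' ≫ Φ =
        Spec.map ((u.app (op U) : 𝒮.presheaf.obj (op U) ⟶ 𝒮'.presheaf.obj (op (q ⁻¹ᵁ U))) ≫
          𝒮'.presheaf.map (homOfLE hle).op) ≫ 𝒮.toQCAlg.ι U hU)

include hφ hΦ in
theorem preimage_mem_iff {U : S.Opens} (hU : IsAffineOpen U) {U' : S'.Opens} (hU' : IsAffineOpen U')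
    (hle : U' ≤ q ⁻¹ᵁ U) (w : Spec (𝒮'.presheaf.obj (op U'))) :
    Φ (𝒮'.toQCAlg.ι U' hU' w) ∈ RelCone.pointedCone 𝒮 ↔
      ∃ a ∈ ((𝒮.deg U hU)₊).toIdeal, φ U hU U' hU' hle a ∉ w.asIdeal := by
  rw [← Scheme.Hom.comp_apply, hΦ U hU U' hU' hle, Scheme.Hom.comp_apply]
  refine (mem_pointedCone_iff 𝒮 hU _).trans ((mem_vertexCompl_iff 𝒮 hU _).trans ?_)
  rw [SetLike.not_le_iff_exists]
  refine exists_congr fun a ↦ and_congr_right fun _ ↦ ?_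
  have e : φ U hU U' hU' hle a = _ := RingHom.congr_fun (hφ U hU U' hU' hle) a
  rw [e]
  rfl

theorem map_mem_irrelevant {U : S.Opens} (hU : IsAffineOpen U) {U' : S'.Opens}
    (hU' : IsAffineOpen U') (hle : U' ≤ q ⁻¹ᵁ U) {a : 𝒮.presheaf.obj (op U)}
    (ha : a ∈ ((𝒮.deg U hU)₊).toIdeal) :
    φ U hU U' hU' hle a ∈ ((𝒮'.deg U' hU')₊).toIdeal := by
  have key : ((𝒮.deg U hU)₊).toIdeal ≤
      ((𝒮'.deg U' hU')₊).toIdeal.comap (φ U hU U' hU' hle).toRingHom :=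
    Groth.Agent.ProjLib.irrelevant_le_of_homogeneous (𝒜 := 𝒮.deg U hU) fun n hn x hx ↦
      Groth.Agent.ProjLib.mem_irrelevant_of_pos (𝒜 := 𝒮'.deg U' hU') hn
        ((φ U hU U' hU' hle).map_mem hx)
  exact key ha

include hφ hΦ in
theorem preimage_pointedCone_le : Φ ⁻¹ᵁ RelCone.pointedCone 𝒮 ≤ RelCone.pointedCone 𝒮' := by
  intro c hc
  obtain ⟨⟨⟨⟨U, hU⟩, ⟨U', hU'⟩⟩, hle⟩, hx⟩ := RelSpecLib.pairs_cover q (𝒮'.toQCAlg.π c)
  obtain ⟨w, rfl⟩ := RelSpecLib.exists_chart_eq _ hU' c hx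
  obtain ⟨a, ha, haw⟩ := (preimage_mem_iff 𝒮 q 𝒮' u φ hφ Φ hΦ hU hU' hle w).mp hc
  refine (mem_pointedCone_iff 𝒮' hU' w).mpr ?_
  rw [mem_vertexCompl_iff]
  exact fun h ↦ haw (h (map_mem_irrelevant 𝒮 q 𝒮' φ hU hU' hle ha))

include hφ hΦ in
theorem preimage_pointedCone_eq_iff :
    (∀ (U : S.Opens) (hU : IsAffineOpen U) (U' : S'.Opens) (hU' : IsAffineOpen U') (hle : U' ≤ q ⁻¹ᵁ U),
        RelCone.domOpen (φ U hU U' hU' hle) = ⊤) ↔
      Φ ⁻¹ᵁ RelCone.pointedCone 𝒮 = RelCone.pointedCone 𝒮' := by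
  constructor
  · intro H
    refine le_antisymm (preimage_pointedCone_le 𝒮 q 𝒮' u φ hφ Φ hΦ) fun c hc ↦ ?_
    obtain ⟨⟨⟨⟨U, hU⟩, ⟨U', hU'⟩⟩, hle⟩, hx⟩ := RelSpecLib.pairs_cover q (𝒮'.toQCAlg.π c)
    obtain ⟨w, rfl⟩ := RelSpecLib.exists_chart_eq _ hU' c hx
    replace hc := (mem_vertexCompl_iff 𝒮' hU' w).mp ((mem_pointedCone_iff 𝒮' hU' w).mp hc)
    refine (preimage_mem_iff 𝒮 q 𝒮' u φ hφ Φ hΦ hU hU' hle w).mpr ?_
    have hcore : (w.asIdeal.homogeneousCore (𝒮'.deg U' hU')).toIdeal.IsPrime :=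
      w.isPrime.homogeneousCore
    let x : Proj (𝒮'.deg U' hU') := ⟨w.asIdeal.homogeneousCore (𝒮'.deg U' hU'), hcore,
      fun h ↦ hc fun b hb ↦ Ideal.toIdeal_homogeneousCore_le _ _ (h hb)⟩
    have hx' : x ∈ RelCone.domOpen (φ U hU U' hU' hle) := by rw [H]; trivial
    rw [RelCone.mem_domOpen] at hx'
    obtain ⟨a, ha, hax⟩ := hx'
    by_contra hcon
    push Not at hcon
    apply hax
    have key : ((𝒮.deg U hU)₊).toIdeal ≤
        (w.asIdeal.homogeneousCore (𝒮'.deg U' hU')).toIdeal.comap (φ U hU U' hU' hle).toRingHom :=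
      Groth.Agent.ProjLib.irrelevant_le_of_homogeneous (𝒜 := 𝒮.deg U hU) fun n hn b hb ↦
        Ideal.mem_homogeneousCore_of_homogeneous_of_mem (𝒜 := 𝒮'.deg U' hU')
          ⟨n, (φ U hU U' hU' hle).map_mem hb⟩
          (hcon b (Groth.Agent.ProjLib.mem_irrelevant_of_pos (𝒜 := 𝒮.deg U hU) hn hb))
    exact key ha
  · intro H U hU U' hU' hle
    rw [eq_top_iff]
    intro x _
    rw [RelCone.mem_domOpen]
    let w : Spec (𝒮'.presheaf.obj (op U')) := ⟨x.asHomogeneousIdeal.toIdeal, x.isPrime⟩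
    have hw : 𝒮'.toQCAlg.ι U' hU' w ∈ RelCone.pointedCone 𝒮' :=
      (mem_pointedCone_iff 𝒮' hU' w).mpr ((mem_vertexCompl_iff 𝒮' hU' w).mpr x.not_irrelevant_le)
    rw [← H] at hw
    exact (preimage_mem_iff 𝒮 q 𝒮' u φ hφ Φ hΦ hU hU' hle w).mp hw

end qMap

end Groth.Agent.RelConeLib
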