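import Mathlib
import Groth.Prelude.Def_RelSpec2
import Groth.Agent.RelSpecLib.Basic
import Groth.Agent.RelConeLib.PolyAway
import Groth.Agent.RelConeLib.PointedCone
import Groth.Agent.ProjLib.MapLocal
import Groth.Agent.ProjLib.RelProjMap

/-! The canonical open immersion of the affine cone into the projective cone. -/

set_option autoImplicit false
set_option linter.unusedSectionVars false

namespace Groth.Agent.RelConeLib

open CategoryTheory CategoryTheory.Limits AlgebraicGeometry TopologicalSpace Opposite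
open HomogeneousLocalization
open scoped HomogeneousIdeal

universe u

/-- Triviality of the kernel of a morphism, tested on affine charts of the target. -/
theorem ker_eq_bot_of_charts {X P : Scheme.{u}} (i : X ⟶ P) [QuasiCompact i] {K : Type*}
    (R R' : K → CommRingCat.{u}) (e : ∀ k, Spec (R k) ⟶ P) (he : ∀ k, IsOpenImmersion (e k))
    (hcov : ∀ c : P, ∃ k, c ∈ Set.range (e k))
    (φ : ∀ k, R k ⟶ R' k) (hφ : ∀ k, Function.Injective (φ k).hom)
    (l : ∀ k, Spec (R' k) ⟶ X) (hl : ∀ k, l k ≫ i = Spec.map (φ k) ≫ e k) : i.ker = ⊥ := by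
  refine Scheme.IdealSheafData.ext_of_iSup_eq_top
    (fun k ↦ ⟨(e k).opensRange, isAffineOpen_opensRange (e k)⟩) ?_ fun k ↦ ?_
  · rw [eq_top_iff]
    intro c _
    obtain ⟨k, hk⟩ := hcov c
    exact Opens.mem_iSup.mpr ⟨k, hk⟩
  rw [Scheme.Hom.ker_apply, Scheme.IdealSheafData.ideal_bot, Pi.bot_apply, ← le_bot_iff]
  intro s hs
  have hU : (⊤ : (Spec (R k)).Opens) ≤ e k ⁻¹ᵁ (e k).opensRange := fun a _ ↦ ⟨a, rfl⟩
  have hU' : (⊤ : (Spec (R' k)).Opens) ≤ (Spec.map (φ k) ≫ e k) ⁻¹ᵁ (e k).opensRange :=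
    fun a _ ↦ ⟨_, rfl⟩
  have hU'' : (⊤ : (Spec (R' k)).Opens) ≤ l k ⁻¹ᵁ (i ⁻¹ᵁ (e k).opensRange) := by
    rw [← Scheme.Hom.comp_preimage, hl k]; exact hU'
  have h1 : (Spec.map (φ k) ≫ e k).appLE _ ⊤ hU' =
      i.app (e k).opensRange ≫ (l k).appLE _ ⊤ hU'' := by
    rw [Scheme.Hom.app_eq_appLE, Scheme.Hom.appLE_comp_appLE]
    simp only [hl k]
  have h2 : (Spec.map (φ k) ≫ e k).appLE _ ⊤ hU' =
      (e k).appLE _ ⊤ hU ≫ (Spec.map (φ k)).appLE ⊤ ⊤ (fun a _ ↦ trivial) := by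
    rw [Scheme.Hom.appLE_comp_appLE]
  have htop : (Spec.map (φ k)).appLE ⊤ ⊤ (fun a _ ↦ trivial) = (Spec.map (φ k)).appTop :=
    (Scheme.Hom.app_eq_appLE _).symm
  rw [htop] at h2
  have h3 := ConcreteCategory.congr_hom (h2.symm.trans h1) s
  rw [ConcreteCategory.comp_apply, ConcreteCategory.comp_apply,
    show (i.app (e k).opensRange) s = 0 from hs, map_zero] at h3
  have hinj : Function.Injective (Spec.map (φ k)).appTop.hom := by
    intro a b hab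
    apply (ConcreteCategory.bijective_of_isIso (Scheme.ΓSpecIso (R k)).hom).injective
    apply hφ k
    have hn := Scheme.ΓSpecIso_naturality (φ k)
    have ha := ConcreteCategory.congr_hom hn a
    have hb := ConcreteCategory.congr_hom hn b
    simp only [ConcreteCategory.comp_apply] at ha hb
    exact ha.symm.trans ((congrArg _ hab).trans hb)
  have h4 : (e k).appLE _ ⊤ hU s = 0 := hinj (h3.trans (map_zero _).symm)
  have : IsIso ((e k).appLE _ ⊤ hU) := by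
    rw [Scheme.Hom.appLE]
    have : IsIso ((e k).app (e k).opensRange) := (e k).isIso_app _ le_rfl
    have : IsIso ((Spec (R k)).presheaf.map (homOfLE hU).op) := by
      have e' : e k ⁻¹ᵁ (e k).opensRange = ⊤ := top_le_iff.mp hU
      rw [show (homOfLE hU).op = (eqToHom e'.symm).op from Subsingleton.elim _ _]
      infer_instance
    infer_instance
  exact (ConcreteCategory.bijective_of_isIso ((e k).appLE _ ⊤ hU)).injective (h4.trans (map_zero _).symm)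

variable {Y PC : Scheme.{u}} (𝒮 Sh : RelProj.QCGrAlg Y) (ι : 𝒮.toQCAlg ⟶ Sh.toQCAlg)
  (hι : RelProj.IsGradedHom ι) (z : Sh.presheaf.obj (op ⊤))
  (hz : ∀ (U : Y.Opens) (hU : IsAffineOpen U),
    (Sh.presheaf.map (homOfLE le_top).op).hom z ∈ Sh.deg U hU 1)
  (hpoly : ∀ (U : Y.Opens) (_ : IsAffineOpen U),
    Function.Bijective (Polynomial.eval₂RingHom (ι.hom.app (op U)).hom
      ((Sh.presheaf.map (homOfLE le_top).op).hom z)))
  (pC : PC ⟶ Y)
  (chartC : ∀ (U : Y.Opens) (hU : IsAffineOpen U),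
    (((pC ⁻¹ᵁ U : PC.Opens) : Scheme.{u}) ≅ Proj (Sh.deg U hU)))

/-- The restriction of `z` to `U`. -/
noncomputable abbrev zAt (U : Y.Opens) : Sh.presheaf.obj (op U) :=
  (Sh.presheaf.map (homOfLE le_top).op).hom z

include hpoly in
theorem poly_bij (U : Y.Opens) (hU : IsAffineOpen U) :
    Function.Bijective
      (Polynomial.eval₂RingHom (RelProj.gradedHomAt ι hι U hU).toRingHom (zAt Sh z U)) :=
  hpoly U hU

variable (θ : ∀ (U : Y.Opens) (hU : IsAffineOpen U),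
    CommRingCat.of (Away (Sh.deg U hU) (zAt Sh z U)) ⟶ 𝒮.presheaf.obj (op U))
  (hθ : ∀ (U : Y.Opens) (hU : IsAffineOpen U) (q : Away (Sh.deg U hU) (zAt Sh z U))
    (k : ℕ) (x : 𝒮.presheaf.obj (op U)), x ∈ 𝒮.deg U hU k →
      q.val = Localization.mk ((ι.hom.app (op U)).hom x)
        ⟨zAt Sh z U ^ k, pow_mem (Submonoid.mem_powers (zAt Sh z U)) k⟩ →
      (θ U hU).hom q = x)

/-- The chart of the cone immersion. -/
noncomputable def piece (U : Y.Opens) (hU : IsAffineOpen U) :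
    Spec (𝒮.presheaf.obj (op U)) ⟶ PC :=
  Spec.map (θ U hU) ≫ Proj.awayι (Sh.deg U hU) (zAt Sh z U) (hz U hU) one_pos ≫
    RelProj.emb pC chartC U hU

include hι hz hpoly hθ in
theorem isIso_θ (U : Y.Opens) (hU : IsAffineOpen U) : IsIso (θ U hU) :=
  (ConcreteCategory.isIso_iff_bijective _).mpr
    (bijective_toBase (RelProj.gradedHomAt ι hι U hU) (hz U hU) (poly_bij 𝒮 Sh ι hι z hpoly U hU)
      (θ U hU).hom (hθ U hU))

variable (hPC : RelProj.IsRelProj Sh pC chartC)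

include hι hpoly hθ hPC in
theorem piece_res (U : Y.Opens) (hU : IsAffineOpen U) (r : Γ(Y, U)) :
    Spec.map (𝒮.presheaf.map (homOfLE (Y.basicOpen_le r)).op) ≫ piece 𝒮 Sh z hz pC chartC θ U hU =
      piece 𝒮 Sh z hz pC chartC θ (Y.basicOpen r) (hU.basicOpen r) := by
  let res := Sh.res hU (hU.basicOpen r) (Y.basicOpen_le r)
  have key : ∀ (w : Sh.presheaf.obj (op (Y.basicOpen r)))
      (hw : w ∈ Sh.deg _ (hU.basicOpen r) 1) (e : w = res (zAt Sh z U))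
      (θ' : CommRingCat.of (Away (Sh.deg _ (hU.basicOpen r)) w) ⟶ 𝒮.presheaf.obj (op (Y.basicOpen r))),
      (∀ q (k : ℕ) (x : 𝒮.presheaf.obj (op (Y.basicOpen r))), x ∈ 𝒮.deg _ (hU.basicOpen r) k →
        q.val = Localization.mk ((ι.hom.app (op (Y.basicOpen r))).hom x)
          ⟨w ^ k, pow_mem (Submonoid.mem_powers w) k⟩ → θ'.hom q = x) →
      Spec.map (𝒮.presheaf.map (homOfLE (Y.basicOpen_le r)).op) ≫ piece 𝒮 Sh z hz pC chartC θ U hU =
        Spec.map θ' ≫ Proj.awayι (Sh.deg _ (hU.basicOpen r)) w hw one_pos ≫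
          RelProj.emb pC chartC _ (hU.basicOpen r) := by
    rintro w hw rfl θ' hθ'
    rw [← RelProj.map_res_emb hPC U hU r]
    erw [Proj.awayι_comp_map_assoc res _ one_pos (zAt Sh z U) (hz U hU)]
    rw [piece, ← Spec.map_comp_assoc, ← Spec.map_comp_assoc]
    congr 2
    refine CommRingCat.hom_ext (away_hom_ext (RelProj.gradedHomAt ι hι U hU) (hz U hU)
      (poly_bij 𝒮 Sh ι hι z hpoly U hU) fun k x hx ↦ ?_)
    show (𝒮.presheaf.map _).hom ((θ U hU).hom (frac (RelProj.gradedHomAt ι hι U hU) (hz U hU) k x hx)) =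
      θ'.hom (Away.map res (zAt Sh z U) (frac (RelProj.gradedHomAt ι hι U hU) (hz U hU) k x hx))
    rw [hθ U hU _ k x hx (val_frac _ _ k x hx)]
    refine (hθ' _ k _ (𝒮.map_mem hU (hU.basicOpen r) (Y.basicOpen_le r) hx) ?_).symm
    have hn : (Sh.presheaf.map (homOfLE (Y.basicOpen_le r)).op).hom ((ι.hom.app (op U)).hom x) =
        (ι.hom.app (op (Y.basicOpen r))).hom ((𝒮.presheaf.map (homOfLE (Y.basicOpen_le r)).op).hom x) :=
      (ConcreteCategory.congr_hom (ι.hom.naturality (homOfLE (Y.basicOpen_le r)).op) x).symm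
    simp only [frac, Away.map_mk, Away.val_mk]
    congr 1
  refine key _ (hz _ _) ?_ _ (hθ _ _)
  show _ = (Sh.presheaf.map (homOfLE (Y.basicOpen_le r)).op).hom _
  rw [← ConcreteCategory.comp_apply, ← Functor.map_comp]
  rfl

include hι hpoly hθ hPC in
theorem existsUnique_coneImm :
    ∃! i : 𝒮.toQCAlg.spec ⟶ PC, ∀ (U : Y.Opens) (hU : IsAffineOpen U),
      𝒮.toQCAlg.ι U hU ≫ i = piece 𝒮 Sh z hz pC chartC θ U hU := by
  obtain ⟨i, hi, huniq⟩ := RelSpecLib.existsUnique_glue 𝒮.toQCAlg (fun U : Y.affineOpens ↦ U.1)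
    (fun U ↦ U.2) RelSpecLib.affineOpens_cover
    (fun U ↦ piece 𝒮 Sh z hz pC chartC θ U.1 U.2) (fun U V s hsU hsV ↦ by
      obtain ⟨r, r', hrr, hs⟩ := exists_basicOpen_le_affine_inter U.2 V.2 s ⟨hsU, hsV⟩
      have hW : IsAffineOpen (Y.basicOpen r) := IsAffineOpen.basicOpen U.2 r
      have hV : Y.basicOpen r ≤ V.1 := hrr ▸ Y.basicOpen_le r'
      refine ⟨_, hW, hs, Y.basicOpen_le r, hV, ?_⟩
      rw [piece_res 𝒮 Sh ι hι z hz hpoly pC chartC θ hθ hPC U.1 U.2 r]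
      have key : ∀ (W : Y.Opens) (hW : IsAffineOpen W) (hle : W ≤ V.1) (e : Y.basicOpen r' = W),
          piece 𝒮 Sh z hz pC chartC θ W hW =
            Spec.map (𝒮.presheaf.map (homOfLE hle).op) ≫ piece 𝒮 Sh z hz pC chartC θ V.1 V.2 := by
        rintro W hW hle rfl
        exact (piece_res 𝒮 Sh ι hι z hz hpoly pC chartC θ hθ hPC V.1 V.2 r').symm
      exact key _ _ hV hrr.symm)
  exact ⟨i, fun U hU ↦ hi ⟨U, hU⟩, fun f hf ↦ huniq f fun U ↦ hf U.1 U.2⟩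

variable (i : 𝒮.toQCAlg.spec ⟶ PC)
  (hi : ∀ (U : Y.Opens) (hU : IsAffineOpen U),
    𝒮.toQCAlg.ι U hU ≫ i = piece 𝒮 Sh z hz pC chartC θ U hU)

theorem emb_comp (hP : RelProj.IsRelProj Sh pC chartC) (U : Y.Opens) (hU : IsAffineOpen U) :
    RelProj.emb pC chartC U hU ≫ pC =
      Proj.toSpecZero (Sh.deg U hU) ≫ Spec.map (Sh.strZero U hU) ≫ hU.fromSpec := by
  rw [RelProj.emb, Category.assoc, ← hP.chart_over U hU, Iso.inv_hom_id_assoc]

theorem emb_mem (U : Y.Opens) (hU : IsAffineOpen U) (y : Proj (Sh.deg U hU)) :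
    pC (RelProj.emb pC chartC U hU y) ∈ U := by
  show pC (((pC ⁻¹ᵁ U).ι) ((chartC U hU).inv y)) ∈ U
  exact ((chartC U hU).inv y).2

theorem exists_emb_eq (U : Y.Opens) (hU : IsAffineOpen U) (c : PC) (hc : pC c ∈ U) :
    ∃ y, RelProj.emb pC chartC U hU y = c := by
  refine ⟨(chartC U hU).hom ⟨c, hc⟩, ?_⟩
  show ((pC ⁻¹ᵁ U).ι) ((chartC U hU).inv ((chartC U hU).hom ⟨c, hc⟩)) = c
  rw [← Scheme.Hom.comp_apply (chartC U hU).hom, Iso.hom_inv_id]
  rfl

include hι hpoly hθ hPC hi in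
theorem coneImm_over : i ≫ pC = 𝒮.toQCAlg.π := by
  refine RelSpecLib.hom_ext_charts 𝒮.toQCAlg (fun U : Y.affineOpens ↦ U.1) (fun U ↦ U.2)
    RelSpecLib.affineOpens_cover fun U ↦ ?_
  obtain ⟨U, hU'⟩ := U
  have hU : IsAffineOpen U := hU'
  show 𝒮.toQCAlg.ι U hU ≫ i ≫ pC = 𝒮.toQCAlg.ι U hU ≫ 𝒮.toQCAlg.π
  rw [reassoc_of% (hi U hU), piece, Category.assoc, Category.assoc, emb_comp Sh pC chartC hPC U hU,
    Proj.awayι_toSpecZero_assoc, 𝒮.toQCAlg.ι_π, ← Spec.map_comp_assoc, ← Spec.map_comp_assoc]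
  congr 2
  ext r
  show (θ U hU).hom (fromZeroRingHom (Sh.deg U hU) _ ((Sh.strZero U hU).hom r)) =
    (𝒮.str.app (op U)).hom r
  refine hθ U hU _ 0 _ (𝒮.str_mem U hU r) ?_
  have hc : (ι.hom.app (op U)).hom ((𝒮.str.app (op U)).hom r) = (Sh.str.app (op U)).hom r :=
    ConcreteCategory.congr_hom (NatTrans.congr_app ι.comm (op U)) r
  rw [hc]
  show Localization.mk ((Sh.str.app (op U)).hom r) _ = Localization.mk _ _
  congr 1
  exact Subtype.ext (pow_zero _).symm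

include hι hpoly hθ hPC hi in
theorem property_coneImm {Q : MorphismProperty Scheme.{u}} [IsZariskiLocalAtTarget Q]
    (H : ∀ (U : Y.Opens) (hU : IsAffineOpen U),
      Q (Spec.map (θ U hU) ≫ Proj.awayι (Sh.deg U hU) (zAt Sh z U) (hz U hU) one_pos)) :
    Q i := by
  refine IsZariskiLocalAtTarget.of_iSup_eq_top (fun U : Y.affineOpens => pC ⁻¹ᵁ U.1)
    (ProjLib.iSup_preimage_affine pC) fun U => ?_
  obtain ⟨U, hU'⟩ := U
  have hU : IsAffineOpen U := hU'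
  have hover := coneImm_over 𝒮 Sh ι hι z hz hpoly pC chartC θ hθ hPC i hi
  have e : (𝒮.toQCAlg.ι U hU).opensRange = i ⁻¹ᵁ pC ⁻¹ᵁ U := by
    rw [← Scheme.Hom.comp_preimage, hover, 𝒮.toQCAlg.π_preimage U hU]
  let a := (𝒮.toQCAlg.ι U hU).isoOpensRange ≪≫ 𝒮.toQCAlg.spec.isoOfEq e
  have key : i ∣_ pC ⁻¹ᵁ U = a.inv ≫
      (Spec.map (θ U hU) ≫ Proj.awayι (Sh.deg U hU) (zAt Sh z U) (hz U hU) one_pos) ≫
        (chartC U hU).inv := by
    rw [Iso.eq_inv_comp, ← cancel_mono (pC ⁻¹ᵁ U).ι, Category.assoc, morphismRestrict_ι]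
    simp only [Category.assoc]
    have ha : a.hom ≫ (i ⁻¹ᵁ pC ⁻¹ᵁ U).ι = 𝒮.toQCAlg.ι U hU := by
      simp [a, Scheme.isoOfEq_hom_ι]
    rw [reassoc_of% ha, hi U hU]
    rfl
  simp only
  rw [key, Q.cancel_left_of_respectsIso, Q.cancel_right_of_respectsIso]
  exact H U hU

include hι hpoly hθ hPC hi in
theorem isOpenImmersion_coneImm : IsOpenImmersion i :=
  property_coneImm 𝒮 Sh ι hι z hz hpoly pC chartC θ hθ hPC i hi
    (Q := @IsOpenImmersion) fun U hU ↦ by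
      have := isIso_θ 𝒮 Sh ι hι z hz hpoly θ hθ U hU
      infer_instance

set_option backward.isDefEq.respectTransparency.types false in
theorem isAffineHom_awayι {σ A : Type u} [CommRing A] [SetLike σ A] [AddSubgroupClass σ A]
    {𝒜 : ℕ → σ} [GradedRing 𝒜] {d : ℕ} (hd : 0 < d) {g : A} (hg : g ∈ 𝒜 d) :
    IsAffineHom (Proj.awayι 𝒜 g hg hd) := by
  have := ProjLib.basicOpen_ι_isAffineHom 𝒜 hd hg
  unfold Proj.awayι
  infer_instance

include hι hpoly hθ hPC hi in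
theorem isAffineHom_coneImm : IsAffineHom i :=
  property_coneImm 𝒮 Sh ι hι z hz hpoly pC chartC θ hθ hPC i hi
    (Q := @IsAffineHom) fun U hU ↦ by
      have := isIso_θ 𝒮 Sh ι hι z hz hpoly θ hθ U hU
      have := isAffineHom_awayι (𝒜 := Sh.deg U hU) one_pos (hz U hU)
      infer_instance

include hι hpoly hθ hPC hi in
theorem mem_range_coneImm_iff (U : Y.Opens) (hU : IsAffineOpen U) (y : Proj (Sh.deg U hU)) :
    RelProj.emb pC chartC U hU y ∈ Set.range i ↔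
      y ∈ Proj.basicOpen (Sh.deg U hU) (zAt Sh z U) := by
  have := isIso_θ 𝒮 Sh ι hι z hz hpoly θ hθ U hU
  rw [← Proj.opensRange_awayι (Sh.deg U hU) (zAt Sh z U) (hz U hU) one_pos]
  constructor
  · rintro ⟨c, hc⟩
    have hπ : 𝒮.toQCAlg.π c ∈ U := by
      rw [← coneImm_over 𝒮 Sh ι hι z hz hpoly pC chartC θ hθ hPC i hi, Scheme.Hom.comp_apply, hc]
      exact emb_mem Sh pC chartC U hU y
    obtain ⟨q, rfl⟩ := RelSpecLib.exists_chart_eq _ hU c hπ
    refine ⟨Spec.map (θ U hU) q, ?_⟩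
    apply (RelProj.emb pC chartC U hU).isOpenEmbedding.injective
    rw [← hc, ← Scheme.Hom.comp_apply _ i, hi U hU]
    rfl
  · rintro ⟨w, rfl⟩
    obtain ⟨q, rfl⟩ := (Spec.map (θ U hU)).surjective w
    refine ⟨𝒮.toQCAlg.ι U hU q, ?_⟩
    rw [← Scheme.Hom.comp_apply, hi U hU]
    rfl

include hι hpoly hθ hPC hi in
theorem ker_coneImm : i.ker = ⊥ := by
  have := isAffineHom_coneImm 𝒮 Sh ι hι z hz hpoly pC chartC θ hθ hPC i hi
  let K := Σ (U : Y.affineOpens) (d : {d : ℕ // 0 < d}), {g // g ∈ Sh.deg U.1 U.2 d.1}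
  refine ker_eq_bot_of_charts i (K := K)
    (fun k ↦ .of (Away (Sh.deg k.1.1 k.1.2) k.2.2.1))
    (fun k ↦ .of (Away (Sh.deg k.1.1 k.1.2) (k.2.2.1 * zAt Sh z k.1.1)))
    (fun k ↦ Proj.awayι (Sh.deg k.1.1 k.1.2) k.2.2.1 k.2.2.2 k.2.1.2 ≫
      RelProj.emb pC chartC k.1.1 k.1.2)
    (fun k ↦ inferInstance) (fun c ↦ ?_)
    (fun k ↦ CommRingCat.ofHom (awayMap (Sh.deg k.1.1 k.1.2) (hz k.1.1 k.1.2) rfl))
    (fun k ↦ away_awayMap_injective (RelProj.gradedHomAt ι hι k.1.1 k.1.2) (hz k.1.1 k.1.2)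
      (poly_bij 𝒮 Sh ι hι z hpoly k.1.1 k.1.2) k.2.2.2 rfl)
    (fun k ↦
      have := isIso_θ 𝒮 Sh ι hι z hz hpoly θ hθ k.1.1 k.1.2
      Spec.map (CommRingCat.ofHom (awayMap (Sh.deg k.1.1 k.1.2) k.2.2.2 (mul_comm k.2.2.1 _))) ≫
        Spec.map (inv (θ k.1.1 k.1.2)) ≫ 𝒮.toQCAlg.ι k.1.1 k.1.2)
    fun k ↦ ?_
  · obtain ⟨⟨U, hU'⟩, hc⟩ := RelSpecLib.affineOpens_cover (pC c)
    have hU : IsAffineOpen U := hU'
    obtain ⟨y, rfl⟩ := exists_emb_eq Sh pC chartC U hU c hc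
    obtain ⟨j, x, hx⟩ := (Proj.affineOpenCover (Sh.deg U hU)).openCover.exists_eq y
    exact ⟨⟨⟨U, hU'⟩, ⟨j.1.1, j.1.2⟩, ⟨j.2.1, j.2.2⟩⟩, x,
      congrArg (RelProj.emb pC chartC U hU) hx⟩
  · obtain ⟨⟨U, hU'⟩, ⟨d, hd⟩, ⟨g, hg⟩⟩ := k
    have hU : IsAffineOpen U := hU'
    have := isIso_θ 𝒮 Sh ι hι z hz hpoly θ hθ U hU
    simp only
    have hinv : Spec.map (inv (θ U hU)) ≫ 𝒮.toQCAlg.ι U hU ≫ i =
        Proj.awayι (Sh.deg U hU) (zAt Sh z U) (hz U hU) one_pos ≫ RelProj.emb pC chartC U hU := by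
      rw [hi U hU, piece, ← Spec.map_comp_assoc, IsIso.hom_inv_id, Spec.map_id, Category.id_comp]
    simp only [Category.assoc]
    erw [hinv]
    rw [Proj.SpecMap_awayMap_awayι_assoc]
    erw [Proj.SpecMap_awayMap_awayι_assoc]
    rfl

include hι hpoly hθ hPC hi in
theorem range_coneImm_eq (Xz : PC.Opens)
    (hXz : ∀ (U : Y.Opens) (hU : IsAffineOpen U), Xz ⊓ pC ⁻¹ᵁ U =
      (pC ⁻¹ᵁ U).ι ''ᵁ ((chartC U hU).hom ⁻¹ᵁ Proj.basicOpen (Sh.deg U hU) (zAt Sh z U))) :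
    Set.range i = (Xz : Set PC) := by
  ext c
  obtain ⟨⟨U, hU'⟩, hc⟩ := RelSpecLib.affineOpens_cover (pC c)
  have hU : IsAffineOpen U := hU'
  obtain ⟨y, rfl⟩ := exists_emb_eq Sh pC chartC U hU c hc
  rw [mem_range_coneImm_iff 𝒮 Sh ι hι z hz hpoly pC chartC θ hθ hPC i hi]
  have h := SetLike.ext_iff.mp (hXz U hU) (RelProj.emb pC chartC U hU y)
  have hl : RelProj.emb pC chartC U hU y ∈ Xz ⊓ pC ⁻¹ᵁ U ↔ RelProj.emb pC chartC U hU y ∈ Xz :=
    ⟨fun hh ↦ hh.1, fun hh ↦ ⟨hh, emb_mem Sh pC chartC U hU y⟩⟩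
  have hy : (chartC U hU).hom ((chartC U hU).inv y) = y := by
    rw [← Scheme.Hom.comp_apply, Iso.inv_hom_id]; rfl
  rw [SetLike.mem_coe, ← hl, h]
  constructor
  · intro hm
    refine ⟨(chartC U hU).inv y, ?_, rfl⟩
    show (chartC U hU).hom ((chartC U hU).inv y) ∈
      Proj.basicOpen (Sh.deg U hU) (zAt Sh z U)
    rwa [hy]
  · rintro ⟨x, hx, hxe⟩
    have : x = (chartC U hU).inv y := (pC ⁻¹ᵁ U).ι.isOpenEmbedding.injective hxe
    subst this
    have hx' : (chartC U hU).hom ((chartC U hU).inv y) ∈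
      Proj.basicOpen (Sh.deg U hU) (zAt Sh z U) := hx
    rwa [hy] at hx'

end Groth.Agent.RelConeLib
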