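import Groth.Agent.RelConeLib.ConeImm
import Groth.Agent.ProjLib.DomMap
import Groth.Agent.ProjLib.RelProjMap

/-! The retraction of the pointed projective cone onto `Proj 𝒮`. -/

set_option autoImplicit false
set_option linter.unusedSectionVars false

namespace Groth.Agent.RelConeLib

open CategoryTheory CategoryTheory.Limits AlgebraicGeometry TopologicalSpace Opposite
open HomogeneousLocalization
open scoped HomogeneousIdeal

universe u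

variable {Y PC P : Scheme.{u}} (𝒮 𝒮h : RelProj.QCGrAlg Y)
  (ι : 𝒮.toQCAlg ⟶ 𝒮h.toQCAlg) (z : 𝒮h.presheaf.obj (op ⊤)) (hz : RelCone.IsPolyOver 𝒮 𝒮h ι z)
  (pC : PC ⟶ Y)
  (chartC : ∀ (U : Y.Opens) (hU : IsAffineOpen U), (((pC ⁻¹ᵁ U : PC.Opens) : Scheme.{u}) ≅ Proj (𝒮h.deg U hU)))
  (hPC : RelProj.IsRelProj 𝒮h pC chartC)

/-- `ι(U)` as a graded homomorphism. -/
noncomputable abbrev ιAt (U : Y.Opens) (hU : IsAffineOpen U) : 𝒮.deg U hU →+*ᵍ 𝒮h.deg U hU :=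
  RelProj.gradedHomAt ι hz.graded U hU

theorem res_ιAt {U V : Y.Opens} (hU : IsAffineOpen U) (hV : IsAffineOpen V) (i : V ≤ U)
    (x : 𝒮.presheaf.obj (op U)) :
    𝒮h.res hU hV i (ιAt 𝒮 𝒮h ι z hz U hU x) = ιAt 𝒮 𝒮h ι z hz V hV (𝒮.res hU hV i x) :=
  DFunLike.congr_fun (ProjLib.gradedHomAt_res ι hz.graded hU hV i) x

theorem map_res_mem_domOpen_iff {U W : Y.Opens} (hU : IsAffineOpen U) (hW : IsAffineOpen W)
    (r : Γ(Y, U)) (hle : W ≤ U) (hWr : Y.basicOpen r = W)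
    (hirr : (𝒮h.deg W hW)₊ ≤ ((𝒮h.deg U hU)₊).map (𝒮h.res hU hW hle)) (w : Proj (𝒮h.deg W hW)) :
    Proj.map (𝒮h.res hU hW hle) hirr w ∈ RelCone.domOpen (ιAt 𝒮 𝒮h ι z hz U hU) ↔
      w ∈ RelCone.domOpen (ιAt 𝒮 𝒮h ι z hz W hW) := by
  let w' : Spec (𝒮.presheaf.obj (op W)) :=
    ⟨w.asHomogeneousIdeal.toIdeal.comap (ιAt 𝒮 𝒮h ι z hz W hW).toRingHom,
      Ideal.IsPrime.comap (hK := w.isPrime) _⟩
  have h := vertexCompl_res_basicOpen 𝒮 hU hW r hle hWr w'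
  rw [mem_vertexCompl_iff, mem_vertexCompl_iff] at h
  rw [RelCone.mem_domOpen, RelCone.mem_domOpen]
  refine Iff.trans ?_ (h.trans SetLike.not_le_iff_exists)
  rw [SetLike.not_le_iff_exists]
  refine exists_congr fun a ↦ and_congr_right fun _ ↦ ?_
  show ¬ (𝒮h.res hU hW hle (ιAt 𝒮 𝒮h ι z hz U hU a) ∈ w.asHomogeneousIdeal) ↔
    ¬ (ιAt 𝒮 𝒮h ι z hz W hW (𝒮.res hU hW hle a) ∈ w.asHomogeneousIdeal)
  rw [res_ιAt]

include hPC in
theorem mem_pointedProjCone_iff {U : Y.Opens} (hU : IsAffineOpen U) (y : Proj (𝒮h.deg U hU)) :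
    RelProj.emb pC chartC U hU y ∈ RelCone.pointedProjCone 𝒮 hz pC chartC ↔
      y ∈ RelCone.domOpen (ιAt 𝒮 𝒮h ι z hz U hU) := by
  refine ⟨fun h ↦ ?_, fun h ↦ Opens.mem_iSup.mpr ⟨⟨U, hU⟩, y, h, rfl⟩⟩
  obtain ⟨⟨V, hV⟩, y', hy', he⟩ := Opens.mem_iSup.mp h
  obtain ⟨r, s, hrs, hc⟩ := exists_basicOpen_le_affine_inter hU hV (pC (RelProj.emb pC chartC U hU y))
    ⟨emb_mem 𝒮h pC chartC U hU y, he ▸ emb_mem 𝒮h pC chartC V hV y'⟩
  obtain ⟨w, hw⟩ := exists_emb_eq 𝒮h pC chartC _ (hU.basicOpen r) _ hc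
  have eU : Proj.map (𝒮h.res hU (hU.basicOpen r) (Y.basicOpen_le r)) (𝒮h.irrelevant_le_map U hU r) w = y :=
    (RelProj.emb pC chartC U hU).isOpenEmbedding.injective (by
      rw [← Scheme.Hom.comp_apply, RelProj.map_res_emb hPC U hU r]; exact hw)
  rw [← eU]
  refine (map_res_mem_domOpen_iff 𝒮 𝒮h ι z hz hU (hU.basicOpen r) r _ rfl _ w).mpr ?_
  have key : ∀ (W : Y.Opens) (hW : IsAffineOpen W) (w : Proj (𝒮h.deg W hW)), Y.basicOpen s = W →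
      RelProj.emb pC chartC W hW w = RelProj.emb pC chartC V hV y' →
        w ∈ RelCone.domOpen (ιAt 𝒮 𝒮h ι z hz W hW) := by
    rintro W hW w rfl hw
    have eV : Proj.map (𝒮h.res hV hW (Y.basicOpen_le s)) (𝒮h.irrelevant_le_map V hV s) w = y' :=
      (RelProj.emb pC chartC V hV).isOpenEmbedding.injective (by
        rw [← Scheme.Hom.comp_apply, RelProj.map_res_emb hPC V hV s]; exact hw)
    rw [← eV] at hy'
    exact (map_res_mem_domOpen_iff 𝒮 𝒮h ι z hz hV hW s _ rfl _ w).mp hy'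
  exact key _ _ w hrs.symm (hw.trans he.symm)

/-- The pointed projective cone over the base. -/
noncomputable abbrev pCone : PC.Opens := RelCone.pointedProjCone 𝒮 hz pC chartC

/-- The projection of the pointed projective cone to the base. -/
noncomputable abbrev pConeProj : (pCone 𝒮 𝒮h ι z hz pC chartC).toScheme ⟶ Y :=
  (pCone 𝒮 𝒮h ι z hz pC chartC).ι ≫ pC

theorem range_domEmb (U : Y.Opens) (hU : IsAffineOpen U) :
    Set.range ((RelCone.domOpen (ιAt 𝒮 𝒮h ι z hz U hU)).ι ≫ RelProj.emb pC chartC U hU) ⊆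
      Set.range (pCone 𝒮 𝒮h ι z hz pC chartC).ι := by
  rw [Scheme.Opens.range_ι]
  rintro _ ⟨y, rfl⟩
  exact Opens.mem_iSup.mpr ⟨⟨U, hU⟩, y.1, y.2, rfl⟩

/-- `G(ι(U))` as an open of the pointed projective cone. -/
noncomputable def domEmb (U : Y.Opens) (hU : IsAffineOpen U) :
    (RelCone.domOpen (ιAt 𝒮 𝒮h ι z hz U hU)).toScheme ⟶ (pCone 𝒮 𝒮h ι z hz pC chartC).toScheme :=
  IsOpenImmersion.lift (pCone 𝒮 𝒮h ι z hz pC chartC).ι _ (range_domEmb 𝒮 𝒮h ι z hz pC chartC U hU)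

@[reassoc]
theorem domEmb_ι (U : Y.Opens) (hU : IsAffineOpen U) :
    domEmb 𝒮 𝒮h ι z hz pC chartC U hU ≫ (pCone 𝒮 𝒮h ι z hz pC chartC).ι =
      (RelCone.domOpen (ιAt 𝒮 𝒮h ι z hz U hU)).ι ≫ RelProj.emb pC chartC U hU :=
  IsOpenImmersion.lift_fac _ _ _

instance (U : Y.Opens) (hU : IsAffineOpen U) :
    IsOpenImmersion (domEmb 𝒮 𝒮h ι z hz pC chartC U hU) := by
  have : IsOpenImmersion (domEmb 𝒮 𝒮h ι z hz pC chartC U hU ≫ (pCone 𝒮 𝒮h ι z hz pC chartC).ι) := by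
    rw [domEmb_ι]; infer_instance
  exact IsOpenImmersion.of_comp _ (pCone 𝒮 𝒮h ι z hz pC chartC).ι

include hPC in
theorem range_domEmb_eq (U : Y.Opens) (hU : IsAffineOpen U) :
    Set.range (domEmb 𝒮 𝒮h ι z hz pC chartC U hU) =
      (pConeProj 𝒮 𝒮h ι z hz pC chartC ⁻¹ᵁ U : Set _) := by
  ext c
  constructor
  · rintro ⟨y, rfl⟩
    show pC ((pCone 𝒮 𝒮h ι z hz pC chartC).ι (domEmb 𝒮 𝒮h ι z hz pC chartC U hU y)) ∈ U
    rw [← Scheme.Hom.comp_apply _ (pCone 𝒮 𝒮h ι z hz pC chartC).ι, domEmb_ι]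
    exact emb_mem 𝒮h pC chartC U hU _
  · intro hc
    obtain ⟨y, hy⟩ := exists_emb_eq 𝒮h pC chartC U hU c.1 hc
    have hm := (mem_pointedProjCone_iff 𝒮 𝒮h ι z hz pC chartC hPC hU y).mp (hy ▸ c.2)
    refine ⟨⟨y, hm⟩, (pCone 𝒮 𝒮h ι z hz pC chartC).ι.isOpenEmbedding.injective ?_⟩
    rw [← Scheme.Hom.comp_apply, domEmb_ι]
    exact hy

/-- The preimage of `U` in the pointed projective cone is `G(ι(U))`. -/
noncomputable def domIso (U : Y.Opens) (hU : IsAffineOpen U) :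
    (pConeProj 𝒮 𝒮h ι z hz pC chartC ⁻¹ᵁ U).toScheme ≅
      (RelCone.domOpen (ιAt 𝒮 𝒮h ι z hz U hU)).toScheme :=
  (IsOpenImmersion.isoOfRangeEq (domEmb 𝒮 𝒮h ι z hz pC chartC U hU)
    (pConeProj 𝒮 𝒮h ι z hz pC chartC ⁻¹ᵁ U).ι
    ((range_domEmb_eq 𝒮 𝒮h ι z hz pC chartC hPC U hU).trans (Scheme.Opens.range_ι _).symm)).symm

@[reassoc]
theorem domIso_hom_domEmb (U : Y.Opens) (hU : IsAffineOpen U) :
    (domIso 𝒮 𝒮h ι z hz pC chartC hPC U hU).hom ≫ domEmb 𝒮 𝒮h ι z hz pC chartC U hU =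
      (pConeProj 𝒮 𝒮h ι z hz pC chartC ⁻¹ᵁ U).ι :=
  IsOpenImmersion.isoOfRangeEq_inv_fac _ _
    ((range_domEmb_eq 𝒮 𝒮h ι z hz pC chartC hPC U hU).trans (Scheme.Opens.range_ι _).symm)

/-- Restriction `G(ι(D(r))) ⟶ G(ι(U))`. -/
noncomputable def domRes (U : Y.Opens) (hU : IsAffineOpen U) (r : Γ(Y, U)) :
    (RelCone.domOpen (ιAt 𝒮 𝒮h ι z hz (Y.basicOpen r) (hU.basicOpen r))).toScheme ⟶
      (RelCone.domOpen (ιAt 𝒮 𝒮h ι z hz U hU)).toScheme :=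
  IsOpenImmersion.lift (RelCone.domOpen (ιAt 𝒮 𝒮h ι z hz U hU)).ι
    ((RelCone.domOpen (ιAt 𝒮 𝒮h ι z hz _ (hU.basicOpen r))).ι ≫
      Proj.map (𝒮h.res hU (hU.basicOpen r) (Y.basicOpen_le r)) (𝒮h.irrelevant_le_map U hU r))
    (by
      rw [Scheme.Opens.range_ι]
      rintro _ ⟨y, rfl⟩
      exact (map_res_mem_domOpen_iff 𝒮 𝒮h ι z hz hU (hU.basicOpen r) r (Y.basicOpen_le r) rfl
        (𝒮h.irrelevant_le_map U hU r) y.1).mpr y.2)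

@[reassoc]
theorem domRes_ι (U : Y.Opens) (hU : IsAffineOpen U) (r : Γ(Y, U)) :
    domRes 𝒮 𝒮h ι z hz U hU r ≫ (RelCone.domOpen (ιAt 𝒮 𝒮h ι z hz U hU)).ι =
      (RelCone.domOpen (ιAt 𝒮 𝒮h ι z hz _ (hU.basicOpen r))).ι ≫
      Proj.map (𝒮h.res hU (hU.basicOpen r) (Y.basicOpen_le r)) (𝒮h.irrelevant_le_map U hU r) :=
  IsOpenImmersion.lift_fac _ _ _

variable (p : P ⟶ Y)
  (chart : ∀ (U : Y.Opens) (hU : IsAffineOpen U), (((p ⁻¹ᵁ U : P.Opens) : Scheme.{u}) ≅ Proj (𝒮.deg U hU)))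
  (hP : RelProj.IsRelProj 𝒮 p chart)

/-- The retraction over one affine open. -/
noncomputable def retrPiece (U : Y.Opens) (hU : IsAffineOpen U) :
    (pConeProj 𝒮 𝒮h ι z hz pC chartC ⁻¹ᵁ U).toScheme ⟶ P :=
  (domIso 𝒮 𝒮h ι z hz pC chartC hPC U hU).hom ≫ ProjLib.domMap (ιAt 𝒮 𝒮h ι z hz U hU) ≫
    RelProj.emb p chart U hU

include hP in
theorem retrPiece_compat (U : Y.Opens) (hU : IsAffineOpen U) (r : Γ(Y, U)) :
    (pCone 𝒮 𝒮h ι z hz pC chartC).toScheme.homOfLE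
        ((pConeProj 𝒮 𝒮h ι z hz pC chartC).preimage_mono (Y.basicOpen_le r)) ≫
        retrPiece 𝒮 𝒮h ι z hz pC chartC hPC p chart U hU =
      retrPiece 𝒮 𝒮h ι z hz pC chartC hPC p chart (Y.basicOpen r) (hU.basicOpen r) := by
  have h1 : (pCone 𝒮 𝒮h ι z hz pC chartC).toScheme.homOfLE
        ((pConeProj 𝒮 𝒮h ι z hz pC chartC).preimage_mono (Y.basicOpen_le r)) ≫
        (domIso 𝒮 𝒮h ι z hz pC chartC hPC U hU).hom =
      (domIso 𝒮 𝒮h ι z hz pC chartC hPC _ (hU.basicOpen r)).hom ≫ domRes 𝒮 𝒮h ι z hz U hU r := by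
    rw [← cancel_mono (domEmb 𝒮 𝒮h ι z hz pC chartC U hU),
      ← cancel_mono (pCone 𝒮 𝒮h ι z hz pC chartC).ι]
    simp only [Category.assoc, domIso_hom_domEmb_assoc, domEmb_ι, domRes_ι_assoc,
      RelProj.map_res_emb hPC U hU r]
    rw [← domEmb_ι 𝒮 𝒮h ι z hz pC chartC (Y.basicOpen r) (hU.basicOpen r), domIso_hom_domEmb_assoc]
    rw [← domEmb_ι 𝒮 𝒮h ι z hz pC chartC U hU, domIso_hom_domEmb_assoc, Scheme.homOfLE_ι_assoc]
  rw [retrPiece, retrPiece, reassoc_of% h1,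
    reassoc_of% (ProjLib.domRes_domMap (ιAt 𝒮 𝒮h ι z hz U hU)
      (ιAt 𝒮 𝒮h ι z hz _ (hU.basicOpen r)) (𝒮.res hU (hU.basicOpen r) (Y.basicOpen_le r))
      (𝒮h.res hU (hU.basicOpen r) (Y.basicOpen_le r))
      (res_ιAt 𝒮 𝒮h ι z hz hU (hU.basicOpen r) (Y.basicOpen_le r))
      (𝒮.irrelevant_le_map U hU r) (𝒮h.irrelevant_le_map U hU r)
      (domRes 𝒮 𝒮h ι z hz U hU r) (domRes_ι 𝒮 𝒮h ι z hz U hU r)),
    RelProj.map_res_emb hP U hU r]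

/-- The retraction. -/
noncomputable def retr : (pCone 𝒮 𝒮h ι z hz pC chartC).toScheme ⟶ P :=
  ProjLib.glueAffine (pConeProj 𝒮 𝒮h ι z hz pC chartC)
    (retrPiece 𝒮 𝒮h ι z hz pC chartC hPC p chart)
    (retrPiece_compat 𝒮 𝒮h ι z hz pC chartC hPC p chart hP)

@[reassoc]
theorem domEmb_retr (U : Y.Opens) (hU : IsAffineOpen U) :
    domEmb 𝒮 𝒮h ι z hz pC chartC U hU ≫ retr 𝒮 𝒮h ι z hz pC chartC hPC p chart hP =
      ProjLib.domMap (ιAt 𝒮 𝒮h ι z hz U hU) ≫ RelProj.emb p chart U hU := by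
  rw [← cancel_epi (domIso 𝒮 𝒮h ι z hz pC chartC hPC U hU).hom, domIso_hom_domEmb_assoc]
  exact ProjLib.ι_glueAffine _ _ _ U hU

/-- The defining property of the retraction. -/
def IsRetr (r : (pCone 𝒮 𝒮h ι z hz pC chartC).toScheme ⟶ P) : Prop :=
  ∀ (U : Y.Opens) (hU : IsAffineOpen U) (d : ℕ) (hd : 0 < d) (f : 𝒮.presheaf.obj (op U))
    (hf : f ∈ 𝒮.deg U hU d)
    (g : Spec (CommRingCat.of (Away (𝒮h.deg U hU) ((ιAt 𝒮 𝒮h ι z hz U hU) f))) ⟶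
      (pCone 𝒮 𝒮h ι z hz pC chartC).toScheme),
    g ≫ (pCone 𝒮 𝒮h ι z hz pC chartC).ι =
        Proj.awayι (𝒮h.deg U hU) ((ιAt 𝒮 𝒮h ι z hz U hU) f) ((ιAt 𝒮 𝒮h ι z hz U hU).2 hf) hd ≫
          RelProj.emb pC chartC U hU →
      g ≫ r = Spec.map (CommRingCat.ofHom (Away.map (ιAt 𝒮 𝒮h ι z hz U hU) f)) ≫
        Proj.awayι (𝒮.deg U hU) f hf hd ≫ RelProj.emb p chart U hU

theorem chart_domEmb (U : Y.Opens) (hU : IsAffineOpen U) (d : ℕ) (hd : 0 < d)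
    (f : 𝒮.presheaf.obj (op U)) (hf : f ∈ 𝒮.deg U hU d) :
    (ProjLib.domChart (ιAt 𝒮 𝒮h ι z hz U hU) hd hf _ rfl ≫ domEmb 𝒮 𝒮h ι z hz pC chartC U hU) ≫
        (pCone 𝒮 𝒮h ι z hz pC chartC).ι =
      Proj.awayι (𝒮h.deg U hU) ((ιAt 𝒮 𝒮h ι z hz U hU) f) ((ιAt 𝒮 𝒮h ι z hz U hU).2 hf) hd ≫
          RelProj.emb pC chartC U hU := by
  rw [Category.assoc, domEmb_ι, ProjLib.domChart_ι_assoc]

theorem isRetr_retr :
    IsRetr 𝒮 𝒮h ι z hz pC chartC p chart (retr 𝒮 𝒮h ι z hz pC chartC hPC p chart hP) := by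
  intro U hU d hd f hf g hg
  rw [← chart_domEmb 𝒮 𝒮h ι z hz pC chartC U hU d hd f hf, cancel_mono] at hg
  rw [hg, Category.assoc, domEmb_retr, ProjLib.domChart_domMap_assoc, ProjLib.awayMapTo_rfl]

theorem eq_retr (r : (pCone 𝒮 𝒮h ι z hz pC chartC).toScheme ⟶ P)
    (hr : IsRetr 𝒮 𝒮h ι z hz pC chartC p chart r) :
    r = retr 𝒮 𝒮h ι z hz pC chartC hPC p chart hP := by
  refine ProjLib.hom_ext_affine (pConeProj 𝒮 𝒮h ι z hz pC chartC) fun U hU ↦ ?_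
  rw [← domIso_hom_domEmb 𝒮 𝒮h ι z hz pC chartC hPC U hU, Category.assoc, Category.assoc]
  congr 1
  refine ProjLib.domMap_ext _ fun d hd f hf ↦ ?_
  rw [← Category.assoc, ← Category.assoc (ProjLib.domChart _ hd hf _ rfl),
    hr U hU d hd f hf _ (chart_domEmb 𝒮 𝒮h ι z hz pC chartC U hU d hd f hf),
    isRetr_retr 𝒮 𝒮h ι z hz pC chartC hPC p chart hP U hU d hd f hf _
      (chart_domEmb 𝒮 𝒮h ι z hz pC chartC U hU d hd f hf)]

@[reassoc]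
theorem retr_comp : retr 𝒮 𝒮h ι z hz pC chartC hPC p chart hP ≫ p =
    pConeProj 𝒮 𝒮h ι z hz pC chartC := by
  refine ProjLib.hom_ext_affine (pConeProj 𝒮 𝒮h ι z hz pC chartC) fun U hU ↦ ?_
  rw [← domIso_hom_domEmb 𝒮 𝒮h ι z hz pC chartC hPC U hU, Category.assoc, Category.assoc]
  congr 1
  rw [domEmb_retr_assoc, domEmb_ι_assoc, emb_comp 𝒮h pC chartC hPC U hU]
  refine ProjLib.domMap_ext _ fun d hd f hf ↦ ?_
  rw [ProjLib.domChart_domMap_assoc, emb_comp 𝒮 p chart hP U hU, ProjLib.domChart_ι_assoc,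
    Proj.awayι_toSpecZero_assoc, Proj.awayι_toSpecZero_assoc]
  simp only [← Spec.map_comp_assoc]
  congr 2
  refine CommRingCat.hom_ext (RingHom.ext fun s ↦ ?_)
  have hc : (ι.hom.app (op U)).hom ((𝒮.str.app (op U)).hom s) = (𝒮h.str.app (op U)).hom s :=
    ConcreteCategory.congr_hom (NatTrans.congr_app ι.comm (op U)) s
  apply HomogeneousLocalization.val_injective
  show (Away.map (ιAt 𝒮 𝒮h ι z hz U hU) f
      (fromZeroRingHom (𝒮.deg U hU) _ ((𝒮.strZero U hU).hom s))).val = _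
  show Localization.mk ((ι.hom.app (op U)).hom ((𝒮.str.app (op U)).hom s))
      ⟨ιAt 𝒮 𝒮h ι z hz U hU 1, _⟩ = Localization.mk ((𝒮h.str.app (op U)).hom s) ⟨1, _⟩
  simp [hc]

theorem preimage_retr (U : Y.Opens) (hU : IsAffineOpen U) :
    (domEmb 𝒮 𝒮h ι z hz pC chartC U hU).opensRange =
      retr 𝒮 𝒮h ι z hz pC chartC hPC p chart hP ⁻¹ᵁ p ⁻¹ᵁ U := by
  rw [← Scheme.Hom.comp_preimage, retr_comp]
  exact Opens.ext (range_domEmb_eq 𝒮 𝒮h ι z hz pC chartC hPC U hU)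

theorem retr_property {Q : MorphismProperty Scheme.{u}} [IsZariskiLocalAtTarget Q]
    (H : ∀ (U : Y.Opens) (hU : IsAffineOpen U), Q (ProjLib.domMap (ιAt 𝒮 𝒮h ι z hz U hU))) :
    Q (retr 𝒮 𝒮h ι z hz pC chartC hPC p chart hP) := by
  refine IsZariskiLocalAtTarget.of_iSup_eq_top (fun U : Y.affineOpens => p ⁻¹ᵁ U.1)
    (ProjLib.iSup_preimage_affine p) fun U => ?_
  obtain ⟨U, hU'⟩ := U
  have hU : IsAffineOpen U := hU'
  let a := (domEmb 𝒮 𝒮h ι z hz pC chartC U hU).isoOpensRange ≪≫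
    Scheme.isoOfEq _ (preimage_retr 𝒮 𝒮h ι z hz pC chartC hPC p chart hP U hU)
  have ha : a.hom ≫ (retr 𝒮 𝒮h ι z hz pC chartC hPC p chart hP ⁻¹ᵁ p ⁻¹ᵁ U).ι =
      domEmb 𝒮 𝒮h ι z hz pC chartC U hU := by
    simp [a, Scheme.isoOfEq_hom_ι]
  have key : retr 𝒮 𝒮h ι z hz pC chartC hPC p chart hP ∣_ p ⁻¹ᵁ U =
      a.inv ≫ ProjLib.domMap (ιAt 𝒮 𝒮h ι z hz U hU) ≫ (chart U hU).inv := by
    rw [Iso.eq_inv_comp, ← cancel_mono (p ⁻¹ᵁ U).ι, Category.assoc, morphismRestrict_ι,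
      reassoc_of% ha, domEmb_retr, Category.assoc]
    rfl
  simp only
  rw [key, Q.cancel_left_of_respectsIso, Q.cancel_right_of_respectsIso]
  exact H U hU

end Groth.Agent.RelConeLib

namespace Groth.Agent.RelConeLib

open CategoryTheory CategoryTheory.Limits AlgebraicGeometry TopologicalSpace Opposite
open HomogeneousLocalization
open scoped HomogeneousIdeal

universe u

section evalZero

variable {σ A τ B : Type u} [CommRing A] [SetLike σ A] [AddSubgroupClass σ A] {𝒜 : ℕ → σ}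
  [GradedRing 𝒜] [CommRing B] [SetLike τ B] [AddSubgroupClass τ B] {ℬ : ℕ → τ} [GradedRing ℬ]
  (ψ : 𝒜 →+*ᵍ ℬ) {z : B} (hz : z ∈ ℬ 1)
  (hbij : Function.Bijective (Polynomial.eval₂RingHom ψ.toRingHom z))

/-- `z ↦ 0` as a ring homomorphism. -/
noncomputable def evalZero : B →+* A :=
  (Polynomial.evalRingHom 0).comp (RingEquiv.ofBijective _ hbij).symm.toRingHom

theorem evalZero_ψ (a : A) : evalZero ψ hbij (ψ a) = a := by
  have e : (RingEquiv.ofBijective _ hbij).symm (ψ a) = Polynomial.C a :=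
    (RingEquiv.symm_apply_eq _).mpr (by simp)
  show Polynomial.eval 0 ((RingEquiv.ofBijective _ hbij).symm (ψ a)) = a
  rw [e, Polynomial.eval_C]

theorem evalZero_z : evalZero ψ hbij z = 0 := by
  have e : (RingEquiv.ofBijective _ hbij).symm z = Polynomial.X :=
    (RingEquiv.symm_apply_eq _).mpr (by simp)
  show Polynomial.eval 0 ((RingEquiv.ofBijective _ hbij).symm z) = 0
  rw [e, Polynomial.eval_X]

include hz in
theorem evalZero_mem {k : ℕ} {y : B} (hy : y ∈ ℬ k) : evalZero ψ hbij y ∈ 𝒜 k := by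
  obtain ⟨x, hx, rfl⟩ := exists_decomp ψ hz hbij hy
  rw [map_sum, Finset.sum_eq_single k (fun i hi hne ↦ ?_) (fun h ↦ absurd (Finset.self_mem_range_succ k) h)]
  · rw [map_mul, evalZero_ψ, Nat.sub_self, pow_zero, map_one, mul_one]
    exact hx k
  · rw [map_mul, map_pow, evalZero_z,
      zero_pow (Nat.sub_ne_zero_of_lt (lt_of_le_of_ne (Nat.lt_succ_iff.mp (Finset.mem_range.mp hi)) hne)),
      mul_zero]

/-- `z ↦ 0` as a graded homomorphism. -/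
noncomputable def evalZeroGraded : ℬ →+*ᵍ 𝒜 where
  __ := evalZero ψ hbij
  map_mem := fun hy ↦ evalZero_mem ψ hz hbij hy

theorem irrelevant_le_map_of_retr (φ : ℬ →+*ᵍ 𝒜) (hψφ : ∀ a, φ (ψ a) = a) : 𝒜₊ ≤ (ℬ₊).map φ := by
  intro x hx
  refine ProjLib.irrelevant_le_of_homogeneous 𝒜 (I := ((ℬ₊).map φ).toIdeal) (fun n hn a ha ↦ ?_) hx
  rw [← hψφ a]
  exact Ideal.mem_map_of_mem _ (ProjLib.mem_irrelevant_of_pos ℬ hn (ψ.map_mem ha))

end evalZero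

variable {Y PC P : Scheme.{u}} (𝒮 𝒮h : RelProj.QCGrAlg Y)
  (ι : 𝒮.toQCAlg ⟶ 𝒮h.toQCAlg) (z : 𝒮h.presheaf.obj (op ⊤)) (hz : RelCone.IsPolyOver 𝒮 𝒮h ι z)
  (pC : PC ⟶ Y)
  (chartC : ∀ (U : Y.Opens) (hU : IsAffineOpen U), (((pC ⁻¹ᵁ U : PC.Opens) : Scheme.{u}) ≅ Proj (𝒮h.deg U hU)))
  (hPC : RelProj.IsRelProj 𝒮h pC chartC)
  (p : P ⟶ Y)
  (chart : ∀ (U : Y.Opens) (hU : IsAffineOpen U), (((p ⁻¹ᵁ U : P.Opens) : Scheme.{u}) ≅ Proj (𝒮.deg U hU)))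
  (hP : RelProj.IsRelProj 𝒮 p chart)

theorem surjective_domMap_ιAt (U : Y.Opens) (hU : IsAffineOpen U) :
    Function.Surjective (ProjLib.domMap (ιAt 𝒮 𝒮h ι z hz U hU)) :=
  ProjLib.surjective_domMap _ (evalZeroGraded (ιAt 𝒮 𝒮h ι z hz U hU) (hz.deg_z U hU) (hz.bij U hU))
    (evalZero_ψ (ιAt 𝒮 𝒮h ι z hz U hU) (hz.bij U hU))
    (irrelevant_le_map_of_retr (ιAt 𝒮 𝒮h ι z hz U hU) _
      (evalZero_ψ (ιAt 𝒮 𝒮h ι z hz U hU) (hz.bij U hU)))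

theorem isAffineHom_retr : IsAffineHom (retr 𝒮 𝒮h ι z hz pC chartC hPC p chart hP) :=
  retr_property 𝒮 𝒮h ι z hz pC chartC hPC p chart hP (Q := @IsAffineHom)
    fun _ _ ↦ ProjLib.isAffineHom_domMap _

theorem surjective_retr : Function.Surjective (retr 𝒮 𝒮h ι z hz pC chartC hPC p chart hP) :=
  (retr_property 𝒮 𝒮h ι z hz pC chartC hPC p chart hP (Q := @Surjective)
    fun U hU ↦ ⟨surjective_domMap_ιAt 𝒮 𝒮h ι z hz U hU⟩).surj

end Groth.Agent.RelConeLib
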