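import Groth.Agent.RelConeLib.Retraction
import Groth.Agent.RelConeLib.Infinity
import Groth.Agent.RelConeLib.PointedCone

/-! The retraction of the pointed affine cone onto `Proj 𝒮`. -/

set_option autoImplicit false
set_option linter.unusedSectionVars false

namespace Groth.Agent.RelConeLib

open CategoryTheory CategoryTheory.Limits AlgebraicGeometry TopologicalSpace Opposite
open HomogeneousLocalization
open scoped HomogeneousIdeal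

universe u

variable {σ A : Type u} [CommRing A] [SetLike σ A] [AddSubgroupClass σ A] {𝒜 : ℕ → σ} [GradedRing 𝒜]

theorem proj_ext_of_basicOpen {x y : Proj 𝒜}
    (h : ∀ (d : ℕ), 0 < d → ∀ f ∈ 𝒜 d, (f ∈ x.asHomogeneousIdeal ↔ f ∈ y.asHomogeneousIdeal)) :
    x = y := by
  classical
  obtain ⟨g, dg, hdg, hg, hgx⟩ : ∃ g, ∃ dg, 0 < dg ∧ g ∈ 𝒜 dg ∧ g ∉ x.asHomogeneousIdeal := by
    by_contra hcon
    push Not at hcon
    exact x.not_irrelevant_le (ProjLib.irrelevant_le_of_homogeneous 𝒜 fun n hn b hb ↦ hcon b n hn hb)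
  have hgy : g ∉ y.asHomogeneousIdeal := fun hh ↦ hgx ((h dg hdg g hg).mpr hh)
  have key : ∀ (n : ℕ) (a : A), a ∈ 𝒜 n → (a ∈ x.asHomogeneousIdeal ↔ a ∈ y.asHomogeneousIdeal) := by
    intro n a ha
    have h1 := h (n + dg) (Nat.add_pos_right n hdg) (a * g) (SetLike.mul_mem_graded ha hg)
    constructor
    · intro hax
      exact (y.isPrime.mem_or_mem (h1.mp (Ideal.mul_mem_right g _ hax))).resolve_right hgy
    · intro hay
      exact (x.isPrime.mem_or_mem (h1.mpr (Ideal.mul_mem_right g _ hay))).resolve_right hgx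
  refine ProjectiveSpectrum.ext (HomogeneousIdeal.ext (Ideal.ext fun a ↦ ⟨fun ha ↦ ?_, fun ha ↦ ?_⟩))
  · rw [← DirectSum.sum_support_decompose 𝒜 a]
    exact sum_mem fun n _ ↦ (key n _ (DirectSum.decompose 𝒜 a n).2).mp
      (x.asHomogeneousIdeal.isHomogeneous n ha)
  · rw [← DirectSum.sum_support_decompose 𝒜 a]
    exact sum_mem fun n _ ↦ (key n _ (DirectSum.decompose 𝒜 a n).2).mpr
      (y.asHomogeneousIdeal.isHomogeneous n ha)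

variable {Y PC P : Scheme.{u}} (𝒮 𝒮h : RelProj.QCGrAlg Y)
  (ι : 𝒮.toQCAlg ⟶ 𝒮h.toQCAlg) (z : 𝒮h.presheaf.obj (op ⊤)) (hz : RelCone.IsPolyOver 𝒮 𝒮h ι z)
  (pC : PC ⟶ Y)
  (chartC : ∀ (U : Y.Opens) (hU : IsAffineOpen U), (((pC ⁻¹ᵁ U : PC.Opens) : Scheme.{u}) ≅ Proj (𝒮h.deg U hU)))
  (hPC : RelProj.IsRelProj 𝒮h pC chartC)
  (i : 𝒮.toQCAlg.spec ⟶ PC) (hi : RelCone.IsConeImm 𝒮 hz pC chartC i)

theorem coneImm_rule (U : Y.Opens) (hU : IsAffineOpen U)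
    (q : Away (𝒮h.deg U hU) (zAt 𝒮h z U)) (k : ℕ) (x : 𝒮.presheaf.obj (op U))
    (_ : x ∈ 𝒮.deg U hU k)
    (hq : q.val = Localization.mk ((ι.hom.app (op U)).hom x)
      ⟨zAt 𝒮h z U ^ k, pow_mem (Submonoid.mem_powers (zAt 𝒮h z U)) k⟩) :
    (CommRingCat.ofHom (hz.awayZToBase U hU)).hom q = x := by
  rw [CommRingCat.hom_ofHom, hz.awayZToBase_of_val U hU q _ k hq, hz.evalOne_ι]

/-- The point of `Proj 𝒮h(U)` under a point of the affine cone. -/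
noncomputable abbrev conePt (U : Y.Opens) (hU : IsAffineOpen U) (q : Spec (𝒮.presheaf.obj (op U))) :
    Proj (𝒮h.deg U hU) :=
  Proj.awayι (𝒮h.deg U hU) (zAt 𝒮h z U) (hz.deg_z U hU) one_pos
    (Spec.map (CommRingCat.ofHom (hz.awayZToBase U hU)) q)

theorem ιAt_mem_conePt_iff (U : Y.Opens) (hU : IsAffineOpen U) (q : Spec (𝒮.presheaf.obj (op U)))
    {k : ℕ} (hk : 0 < k) {a : 𝒮.presheaf.obj (op U)} (ha : a ∈ 𝒮.deg U hU k) :
    ιAt 𝒮 𝒮h ι z hz U hU a ∈ (conePt 𝒮 𝒮h ι z hz U hU q).asHomogeneousIdeal ↔ a ∈ q.asIdeal :=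
  mem_coneImm_point_iff (ιAt 𝒮 𝒮h ι z hz U hU) (hz.deg_z U hU)
    (CommRingCat.ofHom (hz.awayZToBase U hU)) (coneImm_rule 𝒮 𝒮h ι z hz U hU) q hk ha

include hi in
theorem coneImm_chart (U : Y.Opens) (hU : IsAffineOpen U) (q : Spec (𝒮.presheaf.obj (op U))) :
    i (𝒮.toQCAlg.ι U hU q) = RelProj.emb pC chartC U hU (conePt 𝒮 𝒮h ι z hz U hU q) := by
  rw [← Scheme.Hom.comp_apply, hi U hU]
  rfl

theorem conePt_mem_domOpen (U : Y.Opens) (hU : IsAffineOpen U) (q : Spec (𝒮.presheaf.obj (op U)))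
    (hq : q ∈ RelCone.vertexCompl (𝒮.deg U hU)) :
    conePt 𝒮 𝒮h ι z hz U hU q ∈ RelCone.domOpen (ιAt 𝒮 𝒮h ι z hz U hU) := by
  by_contra h
  refine (mem_vertexCompl_iff 𝒮 hU q).mp hq
    (ProjLib.irrelevant_le_of_homogeneous _ fun n hn b hb ↦ ?_)
  by_contra hbq
  exact h ((RelCone.mem_domOpen _ _).mpr ⟨b, ProjLib.mem_irrelevant_of_pos _ hn hb,
    fun hmem ↦ hbq ((ιAt_mem_conePt_iff 𝒮 𝒮h ι z hz U hU q hn hb).mp hmem)⟩)

include hPC hi in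
theorem pointedCone_le_preimage :
    (RelCone.pointedCone 𝒮 : 𝒮.toQCAlg.spec.Opens) ≤
      i ⁻¹ᵁ RelCone.pointedProjCone 𝒮 hz pC chartC := by
  intro c hc
  obtain ⟨⟨U, hU⟩, q, hq, rfl⟩ := Opens.mem_iSup.mp hc
  show i (𝒮.toQCAlg.ι U hU q) ∈ RelCone.pointedProjCone 𝒮 hz pC chartC
  rw [coneImm_chart 𝒮 𝒮h ι z hz pC chartC i hi U hU q,
    mem_pointedProjCone_iff 𝒮 𝒮h ι z hz pC chartC hPC hU]
  exact conePt_mem_domOpen 𝒮 𝒮h ι z hz U hU q hq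

variable (p : P ⟶ Y)
  (chart : ∀ (U : Y.Opens) (hU : IsAffineOpen U), (((p ⁻¹ᵁ U : P.Opens) : Scheme.{u}) ≅ Proj (𝒮.deg U hU)))
  (hP : RelProj.IsRelProj 𝒮 p chart)
  (i' : (RelCone.pointedCone 𝒮 : 𝒮.toQCAlg.spec.Opens).toScheme ⟶ (pCone 𝒮 𝒮h ι z hz pC chartC).toScheme)
  (hi' : i' ≫ (pCone 𝒮 𝒮h ι z hz pC chartC).ι = (RelCone.pointedCone 𝒮).ι ≫ i)

include hPC hi in
theorem coneImm_over' : i ≫ pC = 𝒮.toQCAlg.π :=
  coneImm_over 𝒮 𝒮h ι hz.graded z hz.deg_z hz.bij pC chartC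
    (fun U hU ↦ CommRingCat.ofHom (hz.awayZToBase U hU))
    (fun U hU q k x hx hq ↦ coneImm_rule 𝒮 𝒮h ι z hz U hU q k x hx hq) hPC i hi

include hPC hi hi' in
theorem affRetr_comp :
    (i' ≫ retr 𝒮 𝒮h ι z hz pC chartC hPC p chart hP) ≫ p =
      (RelCone.pointedCone 𝒮).ι ≫ 𝒮.toQCAlg.π := by
  rw [Category.assoc, retr_comp, pConeProj, reassoc_of% hi',
    coneImm_over' 𝒮 𝒮h ι z hz pC chartC hPC i hi]

include hi hi' in
theorem affRetr_apply (U : Y.Opens) (hU : IsAffineOpen U) (q : Spec (𝒮.presheaf.obj (op U)))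
    (hq : q ∈ RelCone.vertexCompl (𝒮.deg U hU)) (c : (RelCone.pointedCone 𝒮 : 𝒮.toQCAlg.spec.Opens).toScheme)
    (hc : c.1 = 𝒮.toQCAlg.ι U hU q) :
    (i' ≫ retr 𝒮 𝒮h ι z hz pC chartC hPC p chart hP) c =
      RelProj.emb p chart U hU (ProjLib.domMap (ιAt 𝒮 𝒮h ι z hz U hU)
        ⟨conePt 𝒮 𝒮h ι z hz U hU q, conePt_mem_domOpen 𝒮 𝒮h ι z hz U hU q hq⟩) := by
  have hb : i' c = domEmb 𝒮 𝒮h ι z hz pC chartC U hU
      ⟨conePt 𝒮 𝒮h ι z hz U hU q, conePt_mem_domOpen 𝒮 𝒮h ι z hz U hU q hq⟩ := by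
    refine (pCone 𝒮 𝒮h ι z hz pC chartC).ι.isOpenEmbedding.injective ?_
    rw [← Scheme.Hom.comp_apply, hi', ← Scheme.Hom.comp_apply, domEmb_ι]
    show i c.1 = RelProj.emb pC chartC U hU _
    rw [hc, coneImm_chart 𝒮 𝒮h ι z hz pC chartC i hi U hU q]
    rfl
  rw [Scheme.Hom.comp_apply, hb, ← Scheme.Hom.comp_apply, domEmb_retr]
  rfl

theorem mem_basicOpen_domMap_conePt (U : Y.Opens) (hU : IsAffineOpen U)
    (q : Spec (𝒮.presheaf.obj (op U))) (hq : q ∈ RelCone.vertexCompl (𝒮.deg U hU))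
    {d : ℕ} (hd : 0 < d) {f : 𝒮.presheaf.obj (op U)} (hf : f ∈ 𝒮.deg U hU d) :
    ProjLib.domMap (ιAt 𝒮 𝒮h ι z hz U hU)
        ⟨conePt 𝒮 𝒮h ι z hz U hU q, conePt_mem_domOpen 𝒮 𝒮h ι z hz U hU q hq⟩ ∈
        Proj.basicOpen (𝒮.deg U hU) f ↔ f ∉ q.asIdeal := by
  have h := SetLike.ext_iff.mp (ProjLib.domMap_preimage_basicOpen (ιAt 𝒮 𝒮h ι z hz U hU) hd hf)
    ⟨conePt 𝒮 𝒮h ι z hz U hU q, conePt_mem_domOpen 𝒮 𝒮h ι z hz U hU q hq⟩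
  exact h.trans (not_congr (ιAt_mem_conePt_iff 𝒮 𝒮h ι z hz U hU q hd hf))

include hi hi' hPC in
theorem surjective_affRetr :
    Function.Surjective (i' ≫ retr 𝒮 𝒮h ι z hz pC chartC hPC p chart hP) := by
  intro x
  obtain ⟨⟨U, hU'⟩, hx⟩ := RelSpecLib.affineOpens_cover (p x)
  have hU : IsAffineOpen U := hU'
  obtain ⟨x₀, rfl⟩ := exists_emb_eq 𝒮 p chart U hU x hx
  let q : Spec (𝒮.presheaf.obj (op U)) := ⟨x₀.asHomogeneousIdeal.toIdeal, x₀.isPrime⟩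
  have hq : q ∈ RelCone.vertexCompl (𝒮.deg U hU) :=
    (mem_vertexCompl_iff 𝒮 hU q).mpr x₀.not_irrelevant_le
  refine ⟨⟨𝒮.toQCAlg.ι U hU q, (mem_pointedCone_iff 𝒮 hU q).mpr hq⟩, ?_⟩
  rw [affRetr_apply 𝒮 𝒮h ι z hz pC chartC hPC i hi p chart hP i' hi' U hU q hq _ rfl]
  congr 1
  refine proj_ext_of_basicOpen fun d hd f hf ↦ not_iff_not.mp ?_
  exact mem_basicOpen_domMap_conePt 𝒮 𝒮h ι z hz U hU q hq hd hf

set_option backward.isDefEq.respectTransparency.types false in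
include hi hi' hPC in
theorem isAffineHom_affRetr :
    IsAffineHom (i' ≫ retr 𝒮 𝒮h ι z hz pC chartC hPC p chart hP) := by
  refine isAffineHom_of_forall_exists_isAffineOpen _ fun x ↦ ?_
  obtain ⟨⟨U, hU'⟩, hx⟩ := RelSpecLib.affineOpens_cover (p x)
  have hU : IsAffineOpen U := hU'
  obtain ⟨x₀, rfl⟩ := exists_emb_eq 𝒮 p chart U hU x hx
  obtain ⟨⟨⟨d, hd⟩, f, hf⟩, hxf⟩ := Opens.mem_iSup.mp
    ((ProjLib.iSup_basicOpen_pos (𝒜 := 𝒮.deg U hU)).ge (Set.mem_univ x₀))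
  refine ⟨RelProj.emb p chart U hU ''ᵁ Proj.basicOpen (𝒮.deg U hU) f, ⟨x₀, hxf, rfl⟩,
    (Proj.isAffineOpen_basicOpen _ f hf hd).image_of_isOpenImmersion _, ?_⟩
  rw [← (RelCone.pointedCone 𝒮).ι.isAffineOpen_iff_of_isOpenImmersion]
  have hD : (RelCone.pointedCone 𝒮).ι ''ᵁ
      ((i' ≫ retr 𝒮 𝒮h ι z hz pC chartC hPC p chart hP) ⁻¹ᵁ
        (RelProj.emb p chart U hU ''ᵁ Proj.basicOpen (𝒮.deg U hU) f)) =
      𝒮.toQCAlg.ι U hU ''ᵁ PrimeSpectrum.basicOpen f := by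
    ext a
    constructor
    · rintro ⟨c, ⟨y, hy, hyc⟩, rfl⟩
      have hπ : 𝒮.toQCAlg.π c.1 ∈ U := by
        have := ConcreteCategory.congr_hom (congrArg (fun g ↦ g.base)
          (affRetr_comp 𝒮 𝒮h ι z hz pC chartC hPC i hi p chart hP i' hi')) c
        show ((RelCone.pointedCone 𝒮).ι ≫ 𝒮.toQCAlg.π) c ∈ U
        rw [← affRetr_comp 𝒮 𝒮h ι z hz pC chartC hPC i hi p chart hP i' hi',
          Scheme.Hom.comp_apply, ← hyc]
        exact emb_mem 𝒮 p chart U hU y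
      obtain ⟨q, hq⟩ := RelSpecLib.exists_chart_eq _ hU _ hπ
      have hqv := (mem_pointedCone_iff 𝒮 hU q).mp (hq ▸ c.2)
      rw [affRetr_apply 𝒮 𝒮h ι z hz pC chartC hPC i hi p chart hP i' hi' U hU q hqv c hq.symm] at hyc
      have := (RelProj.emb p chart U hU).isOpenEmbedding.injective hyc
      subst this
      exact ⟨q, (mem_basicOpen_domMap_conePt 𝒮 𝒮h ι z hz U hU q hqv hd hf).mp hy, hq⟩
    · rintro ⟨q, hq, rfl⟩
      have hqv : q ∈ RelCone.vertexCompl (𝒮.deg U hU) :=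
        (mem_vertexCompl_iff 𝒮 hU q).mpr fun h ↦ hq (h (ProjLib.mem_irrelevant_of_pos _ hd hf))
      refine ⟨⟨𝒮.toQCAlg.ι U hU q, (mem_pointedCone_iff 𝒮 hU q).mpr hqv⟩, ?_, rfl⟩
      exact ⟨_, (mem_basicOpen_domMap_conePt 𝒮 𝒮h ι z hz U hU q hqv hd hf).mpr hq,
        (affRetr_apply 𝒮 𝒮h ι z hz pC chartC hPC i hi p chart hP i' hi' U hU q hqv _ rfl).symm⟩
  rw [hD]
  exact (IsAffineOpen.Spec_basicOpen f).image_of_isOpenImmersion _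

end Groth.Agent.RelConeLib
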